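import Cfsg.Agent.Lib.Coprime.Hom
import Mathlib

/-!
Fixed points of an automorphism of prime order in `[H, x]`: basic notions.
-/

set_option autoImplicit false

open scoped commutatorElement

namespace Cfsg.Agent.Flavell73

variable {H : Type*} [Group H]

/-- Fixed points of an automorphism. -/
abbrev Fixp (x : MulAut H) : Subgroup H := (x : H →* H).eqLocus (MonoidHom.id H)

/-- The subgroup `[h, P]`. -/
abbrev D (x : MulAut H) (h : H) : Subgroup H :=
  Subgroup.closure {c : H | ∃ i : ℕ, c = h⁻¹ * (x ^ i) h}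

/-- The subgroup `[M, P]`. -/
def Comm (x : MulAut H) (M : Subgroup H) : Subgroup H :=
  Subgroup.closure {c : H | ∃ h ∈ M, ∃ i : ℕ, c = h⁻¹ * (x ^ i) h}

/-- The subgroup generated by the fixed points in the `[h, P]`. -/
abbrev KK (x : MulAut H) : Subgroup H := ⨆ h : H, D x h ⊓ Fixp x

/-- Invariance. -/
def Inv (x : MulAut H) (M : Subgroup H) : Prop := ∀ m ∈ M, x m ∈ M

variable {x : MulAut H}

theorem pow_succ_apply (x : MulAut H) (i : ℕ) (h : H) : (x ^ (i + 1)) h = x ((x ^ i) h) := by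
  rw [pow_succ']; rfl

theorem pow_succ_apply' (x : MulAut H) (i : ℕ) (h : H) : (x ^ (i + 1)) h = (x ^ i) (x h) := by
  rw [pow_succ]; rfl

theorem mem_fixp {h : H} : h ∈ Fixp x ↔ x h = h := Iff.rfl

theorem pow_fix {h : H} (hh : x h = h) (i : ℕ) : (x ^ i) h = h := by
  induction i with
  | zero => rfl
  | succ i ih => rw [pow_succ_apply, ih, hh]

theorem Inv.pow {M : Subgroup H} (hM : Inv x M) (i : ℕ) {m : H} (hm : m ∈ M) :
    (x ^ i) m ∈ M := by
  induction i with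
  | zero => exact hm
  | succ i ih => rw [pow_succ_apply]; exact hM _ ih

theorem inv_closure {S : Set H} (hS : ∀ c ∈ S, x c ∈ Subgroup.closure S) :
    Inv x (Subgroup.closure S) := fun m hm =>
  ((Subgroup.closure_le ((Subgroup.closure S).comap (x : H →* H))).mpr fun c hc => hS c hc) hm

theorem inv_top : Inv x (⊤ : Subgroup H) := fun _ _ => trivial

theorem inv_inf {M N : Subgroup H} (hM : Inv x M) (hN : Inv x N) : Inv x (M ⊓ N) :=
  fun m hm => ⟨hM m hm.1, hN m hm.2⟩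

theorem inv_sup {M N : Subgroup H} (hM : Inv x M) (hN : Inv x N) : Inv x (M ⊔ N) :=
  fun m hm => (sup_le (c := (M ⊔ N).comap (x : H →* H))
    (fun a ha => (le_sup_left : M ≤ M ⊔ N) (hM a ha))
    (fun a ha => (le_sup_right : N ≤ M ⊔ N) (hN a ha))) hm

theorem inv_fixp : Inv x (Fixp x) := fun m hm => by
  have h : x m = m := hm
  rw [h]; exact hm

theorem inv_commutator {M N : Subgroup H} (hM : Inv x M) (hN : Inv x N) : Inv x ⁅M, N⁆ :=
  fun m hm => ((Subgroup.commutator_le (H₃ := (⁅M, N⁆).comap (x : H →* H))).mpr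
    fun a ha b hb => by
      show x ⁅a, b⁆ ∈ ⁅M, N⁆
      rw [map_commutatorElement]
      exact Subgroup.commutator_mem_commutator (hM a ha) (hN b hb)) hm

theorem inv_center : Inv x (Subgroup.center H) := fun m hm =>
  Subgroup.mem_center_iff.mpr fun g => by
    have h := congrArg x (Subgroup.mem_center_iff.mp hm (x.symm g))
    simpa using h

theorem gen_mem_D (h : H) (i : ℕ) : h⁻¹ * (x ^ i) h ∈ D x h :=
  Subgroup.subset_closure ⟨i, rfl⟩

theorem gen_mem_Comm {M : Subgroup H} {h : H} (hh : h ∈ M) (i : ℕ) :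
    h⁻¹ * (x ^ i) h ∈ Comm x M :=
  Subgroup.subset_closure ⟨h, hh, i, rfl⟩

theorem inv_D (h : H) : Inv x (D x h) := inv_closure fun c hc => by
  obtain ⟨i, rfl⟩ := hc
  have : x (h⁻¹ * (x ^ i) h) = (h⁻¹ * (x ^ 1) h)⁻¹ * (h⁻¹ * (x ^ (i + 1)) h) := by
    rw [map_mul, map_inv, pow_one, pow_succ_apply]; group
  rw [this]
  exact mul_mem (inv_mem (gen_mem_D h 1)) (gen_mem_D h (i + 1))

theorem inv_Comm (M : Subgroup H) : Inv x (Comm x M) := inv_closure fun c hc => by
  obtain ⟨h, hh, i, rfl⟩ := hc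
  have : x (h⁻¹ * (x ^ i) h) = (h⁻¹ * (x ^ 1) h)⁻¹ * (h⁻¹ * (x ^ (i + 1)) h) := by
    rw [map_mul, map_inv, pow_one, pow_succ_apply]; group
  rw [this]
  exact mul_mem (inv_mem (gen_mem_Comm hh 1)) (gen_mem_Comm hh (i + 1))

theorem Comm_le {M : Subgroup H} (hM : Inv x M) : Comm x M ≤ M :=
  (Subgroup.closure_le _).mpr fun c ⟨h, hh, i, hc⟩ => by
    rw [hc]; exact mul_mem (inv_mem hh) (hM.pow i hh)

theorem Comm_mono {M N : Subgroup H} (h : M ≤ N) : Comm x M ≤ Comm x N :=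
  Subgroup.closure_mono fun _ ⟨a, ha, i, hc⟩ => ⟨a, h ha, i, hc⟩

theorem D_le_Comm {M : Subgroup H} {h : H} (hh : h ∈ M) : D x h ≤ Comm x M :=
  Subgroup.closure_mono fun _ ⟨i, hc⟩ => ⟨h, hh, i, hc⟩

theorem le_KK (h : H) : D x h ⊓ Fixp x ≤ KK x := le_iSup (fun h => D x h ⊓ Fixp x) h

theorem KK_le_fixp : KK x ≤ Fixp x := iSup_le fun _ => inf_le_right

theorem conj_Comm {M : Subgroup H} {m c : H} (hm : m ∈ M) (hc : c ∈ Comm x M) :
    m * c * m⁻¹ ∈ Comm x M := by
  have h : Comm x M ≤ (Comm x M).comap ((MulAut.conj m : H ≃* H) : H →* H) :=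
    (Subgroup.closure_le _).mpr fun d ⟨h, hh, i, hd⟩ => by
      show m * d * m⁻¹ ∈ Comm x M
      have : m * d * m⁻¹ = ((h * m⁻¹)⁻¹ * (x ^ i) (h * m⁻¹)) * ((m⁻¹)⁻¹ * (x ^ i) m⁻¹)⁻¹ := by
        rw [hd, map_mul]; group
      rw [this]
      exact mul_mem (gen_mem_Comm (mul_mem hh (inv_mem hm)) i)
        (inv_mem (gen_mem_Comm (inv_mem hm) i))
  exact h hc

theorem conj_KK {c k : H} (hc : x c = c) (hk : k ∈ KK x) : c * k * c⁻¹ ∈ KK x := by
  have h : KK x ≤ (KK x).comap ((MulAut.conj c : H ≃* H) : H →* H) := by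
    refine iSup_le fun h d hd => ?_
    show c * d * c⁻¹ ∈ KK x
    refine le_KK (h * c⁻¹) ⟨?_, ?_⟩
    · have h1 : D x h ≤ (D x (h * c⁻¹)).comap ((MulAut.conj c : H ≃* H) : H →* H) :=
        (Subgroup.closure_le _).mpr fun e ⟨i, he⟩ => by
          show c * e * c⁻¹ ∈ D x (h * c⁻¹)
          have : c * e * c⁻¹ = (h * c⁻¹)⁻¹ * (x ^ i) (h * c⁻¹) := by
            rw [he, map_mul, map_inv, pow_fix hc]; group
          rw [this]; exact gen_mem_D _ i
      exact h1 hd.1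
    · have hd2 : x d = d := hd.2
      show x (c * d * c⁻¹) = c * d * c⁻¹
      rw [map_mul, map_mul, map_inv, hc, hd2]
  exact h hk

theorem eq_one_of_pow {p : ℕ} [Finite H] (hcop : (Nat.card H).Coprime p) {z : H}
    (h : z ^ p = 1) : z = 1 :=
  (powCoprime hcop).injective (by simpa [powCoprime] using h)

theorem mem_of_pow_mem {n : ℕ} (M : Subgroup H) {w : H} (hw : w ^ n ∈ M)
    (hcop : (orderOf w).Coprime n) : w ∈ M := by
  obtain ⟨m, hm⟩ := exists_pow_eq_self_of_coprime (x := w) hcop.symm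
  exact hm ▸ pow_mem hw m

theorem symm_apply {p : ℕ} (hp : 0 < p) (hxp : x ^ p = 1) (h : H) :
    x.symm h = (x ^ (p - 1)) h := by
  rw [MulEquiv.symm_apply_eq, ← pow_succ_apply, Nat.sub_add_cancel hp, hxp]; rfl

section finite

variable [Finite H] {p : ℕ} [hp : Fact p.Prime] (hxp : x ^ p = 1)
  (hcop : (Nat.card H).Coprime p)

include hxp hcop

/-- An invariant coset contains a fixed point. -/
theorem fix_lift {N : Subgroup H} (hN : Inv x N) (k : H) (hk : k⁻¹ * x k ∈ N) :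
    ∃ n ∈ N, x (k * n) = k * n := by
  haveI : Finite (MulAut H) := Finite.of_injective _ DFunLike.coe_injective
  have hA : (Nat.card (Subgroup.zpowers x)).Coprime (Nat.card N) := by
    rw [Nat.card_zpowers]
    exact (hcop.coprime_dvd_left (Subgroup.card_subgroup_dvd_card N)).symm.coprime_dvd_left
      (orderOf_dvd_of_pow_eq_one hxp)
  have hrep : ∀ a : Subgroup.zpowers x, ∃ i : ℕ, (a : MulAut H) = x ^ i := fun a => by
    obtain ⟨i, hi⟩ := (Submonoid.mem_powers_iff _ _).mp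
      ((mem_powers_iff_mem_zpowers).mpr a.2)
    exact ⟨i, hi.symm⟩
  have hki : ∀ i : ℕ, k⁻¹ * (x ^ i) k ∈ N := by
    intro i
    induction i with
    | zero => simp [one_mem]
    | succ i ih =>
      have : k⁻¹ * (x ^ (i + 1)) k = (k⁻¹ * x k) * x (k⁻¹ * (x ^ i) k) := by
        rw [pow_succ_apply, map_mul, map_inv]; group
      rw [this]
      exact mul_mem hk (hN _ ih)
  haveI : IsCyclic (Subgroup.zpowers x) := inferInstance
  obtain ⟨n, hn, hfix⟩ := Cfsg.Agent.Coprime.exists_fixed_in_coset_hom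
    (Subgroup.zpowers x).subtype N
    (fun a m hm => by
      obtain ⟨i, hi⟩ := hrep a
      show (a : MulAut H) m ∈ N
      rw [hi]; exact hN.pow i hm)
    hA (Or.inl (by
      letI : CommGroup (Subgroup.zpowers x) := IsCyclic.commGroup
      infer_instance)) k
    (fun a => by
      obtain ⟨i, hi⟩ := hrep a
      show k⁻¹ * (a : MulAut H) k ∈ N
      rw [hi]; exact hki i)
  exact ⟨n, hn, hfix ⟨x, Subgroup.mem_zpowers x⟩⟩

/-- An invariant Sylow subgroup. -/
theorem inv_sylow (r : ℕ) [Fact r.Prime] : ∃ R : Sylow r H, Inv x (R : Subgroup H) := by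
  haveI : Finite (MulAut H) := Finite.of_injective _ DFunLike.coe_injective
  have hA : (Nat.card (Subgroup.zpowers x)).Coprime (Nat.card H) := by
    rw [Nat.card_zpowers]
    exact hcop.symm.coprime_dvd_left (orderOf_dvd_of_pow_eq_one hxp)
  obtain ⟨R, hR⟩ := Cfsg.Agent.Coprime.exists_invariant_sylow_hom
    (Subgroup.zpowers x).subtype hA (Or.inl (by
      letI : CommGroup (Subgroup.zpowers x) := IsCyclic.commGroup
      infer_instance)) r
  exact ⟨R, fun m hm => hR ⟨x, Subgroup.mem_zpowers x⟩ m hm⟩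

/-- `M = C_M(x) [M, x]`. -/
theorem decomp {M : Subgroup H} (hM : Inv x M) {m : H} (hm : m ∈ M) :
    ∃ f ∈ M, x f = f ∧ ∃ c ∈ Comm x M, m = f * c := by
  obtain ⟨n, hn, hfix⟩ := fix_lift hxp hcop (inv_Comm M) m
    (by simpa using gen_mem_Comm hm 1)
  exact ⟨m * n, mul_mem hm (Comm_le hM hn), hfix, n⁻¹, inv_mem hn, by group⟩

/-- `[[M, x], x] = [M, x]`. -/
theorem Comm_idem {M : Subgroup H} (hM : Inv x M) : Comm x (Comm x M) = Comm x M := by
  refine le_antisymm (Comm_le (inv_Comm M)) ?_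
  refine (Subgroup.closure_le _).mpr fun d ⟨h, hh, i, hd⟩ => ?_
  obtain ⟨f, -, hf, c, hc, rfl⟩ := decomp hxp hcop hM hh
  rw [hd, map_mul, pow_fix hf i]
  have : (f * c)⁻¹ * (f * (x ^ i) c) = c⁻¹ * (x ^ i) c := by group
  rw [this]
  exact gen_mem_Comm hc i

end finite

section avg

variable {A : Type*} [CommGroup A]

/-- Averaging a homomorphism over the powers of an automorphism. -/
def avg (y : MulAut H) (f : H →* A) (p : ℕ) : H →* A :=
  ∏ i ∈ Finset.range p, f.comp (((y ^ i : MulAut H)) : H →* H)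

theorem avg_apply (y : MulAut H) (f : H →* A) (p : ℕ) (h : H) :
    avg y f p h = ∏ i ∈ Finset.range p, f ((y ^ i) h) := by
  simp [avg, MonoidHom.finsetProd_apply]

theorem avg_inv (y : MulAut H) (f : H →* A) {p : ℕ} (hy : y ^ p = 1) (h : H) :
    avg y f p (y h) = avg y f p h := by
  simp only [avg_apply, ← pow_succ_apply']
  have h1 := Finset.prod_range_succ' (fun i => f ((y ^ i) h)) p
  have h2 := Finset.prod_range_succ (fun i => f ((y ^ i) h)) p
  rw [h2, hy, pow_zero] at h1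
  exact (mul_right_cancel h1).symm

theorem avg_inv_pow (y : MulAut H) (f : H →* A) {p : ℕ} (hy : y ^ p = 1) (i : ℕ) (h : H) :
    avg y f p ((y ^ i) h) = avg y f p h := by
  induction i with
  | zero => rfl
  | succ i ih => rw [pow_succ_apply, avg_inv y f hy, ih]

theorem avg_kills (y : MulAut H) (f : H →* A) {p : ℕ} (hy : y ^ p = 1) {h : H}
    (hh : h ∈ Comm y ⊤) : avg y f p h = 1 := by
  have h1 : Comm y ⊤ ≤ (avg y f p).ker := (Subgroup.closure_le _).mpr fun d ⟨a, _, i, hd⟩ => by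
    show avg y f p d = 1
    rw [hd, map_mul, map_inv, avg_inv_pow y f hy, inv_mul_cancel]
  exact h1 hh

theorem avg_fixed (y : MulAut H) (f : H →* A) (p : ℕ) {h : H} (hh : y h = h) :
    avg y f p h = f h ^ p := by
  rw [avg_apply, Finset.prod_congr rfl fun i _ => by rw [pow_fix hh i]]
  simp

theorem avg_id_fix (y : MulAut A) {p : ℕ} (hy : y ^ p = 1) (v : A) :
    y (avg y (MonoidHom.id A) p v) = avg y (MonoidHom.id A) p v := by
  conv_rhs => rw [← avg_inv y _ hy]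
  simp only [avg_apply, MonoidHom.id_apply, map_prod]
  refine Finset.prod_congr rfl fun i _ => ?_
  rw [← pow_succ_apply, ← pow_succ_apply']

theorem comm_identity (a₀ a₁ a₂ a₃ a₄ : A) :
    (((a₀⁻¹ * a₁)⁻¹ * (a₁⁻¹ * a₂))⁻¹ * ((a₂⁻¹ * a₃)⁻¹ * (a₃⁻¹ * a₄))) *
      ((a₂⁻¹ * a₄)⁻¹ * (a₁⁻¹ * a₃) * (a₂⁻¹ * a₃) * (a₀⁻¹ * a₁)⁻¹) = 1 := by
  apply Additive.ofMul.injective
  simp only [ofMul_mul, ofMul_inv, ofMul_one]
  abel

end avg

section restrict

variable [Finite H]

/-- Restriction to an invariant subgroup. -/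
noncomputable def resAut (M : Subgroup H) (hM : Inv x M) : MulAut M :=
  MulEquiv.ofBijective
    ({ toFun := fun m => ⟨x m, hM m m.2⟩
       map_one' := Subtype.ext (map_one x)
       map_mul' := fun a b => Subtype.ext (map_mul x (a : H) b) } : M →* M)
    (Finite.injective_iff_bijective.mp fun _ _ h =>
      Subtype.ext (x.injective (congrArg Subtype.val h)))

theorem resAut_pow (M : Subgroup H) (hM : Inv x M) (i : ℕ) (m : M) :
    (((resAut M hM) ^ i) m : H) = (x ^ i) (m : H) := by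
  induction i with
  | zero => rfl
  | succ i ih => rw [pow_succ_apply, pow_succ_apply, ← ih]; rfl

theorem resAut_pow_one (M : Subgroup H) (hM : Inv x M) {p : ℕ} (hxp : x ^ p = 1) :
    (resAut M hM) ^ p = 1 :=
  MulEquiv.ext fun m => Subtype.ext (by rw [resAut_pow, hxp]; rfl)

end restrict

theorem exists_proj (V Q Q₁ : Subgroup H) (hVQ : V ≤ Q) (hQ₁ : Q₁ ≤ Q)
    (hcomm : ∀ v ∈ V, ∀ g ∈ Q, v * g = g * v) (hdis : V ⊓ Q₁ = ⊥)
    (hsur : ∀ g ∈ Q, ∃ v ∈ V, ∃ q ∈ Q₁, g = v * q) :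
    ∃ π : Q →* V, ∀ v (hv : v ∈ V), π ⟨v, hVQ hv⟩ = ⟨v, hv⟩ := by
  let e₀ : V × Q₁ →* Q :=
    { toFun := fun z => ⟨z.1 * z.2, mul_mem (hVQ z.1.2) (hQ₁ z.2.2)⟩
      map_one' := by ext; simp
      map_mul' := fun z w => by
        ext
        have h := hcomm w.1 w.1.2 z.2 (hQ₁ z.2.2)
        simp only [Prod.fst_mul, Prod.snd_mul, Subgroup.coe_mul]
        rw [mul_assoc (z.1 : H) _ _, ← mul_assoc (w.1 : H) _ _, h]
        simp [mul_assoc] }
  have hinj : Function.Injective e₀ := (injective_iff_map_eq_one e₀).mpr fun z hz => by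
    have h : (z.1 : H) * z.2 = 1 := congrArg Subtype.val hz
    have h1 : (z.1 : H) ∈ V ⊓ Q₁ := ⟨z.1.2, by rw [eq_inv_of_mul_eq_one_left h]; exact Q₁.inv_mem z.2.2⟩
    rw [hdis, Subgroup.mem_bot] at h1
    rw [h1, one_mul] at h
    exact Prod.ext (Subtype.ext h1) (Subtype.ext h)
  have hbij : Function.Bijective e₀ := ⟨hinj, fun g => by
    obtain ⟨v, hv, q, hq, h⟩ := hsur g g.2
    exact ⟨(⟨v, hv⟩, ⟨q, hq⟩), Subtype.ext h.symm⟩⟩
  refine ⟨(MonoidHom.fst V Q₁).comp (MulEquiv.ofBijective e₀ hbij).symm.toMonoidHom,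
    fun v hv => ?_⟩
  have : (MulEquiv.ofBijective e₀ hbij).symm ⟨v, hVQ hv⟩ = (⟨v, hv⟩, 1) := by
    rw [MulEquiv.symm_apply_eq]
    exact Subtype.ext (by simp [e₀, MulEquiv.ofBijective])
  simp [this]

end Cfsg.Agent.Flavell73
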