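import Cfsg.Agent.Flavell73.NonCentral

/-!
The fixed points of `x` in `[H, x]` are generated by those in the subgroups `[h, x]`.
-/

set_option autoImplicit false
set_option linter.unusedSectionVars false
set_option maxHeartbeats 1000000

open scoped commutatorElement IsMulCommutative

namespace Cfsg.Agent.Flavell73

universe u

theorem sub_step {H : Type u} [Group H] [Finite H] {x : MulAut H} {p : ℕ} [Fact p.Prime]
    (hxp : x ^ p = 1) (M : Subgroup H) (hM : Inv x M)
    (IH : ∀ y : MulAut M, y ^ p = 1 → Comm y ⊤ ⊓ Fixp y ≤ KK y) :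
    Comm x M ⊓ Fixp x ≤ KK x := by
  set y := resAut (x := x) M hM
  have hy : y ^ p = 1 := resAut_pow_one _ hM hxp
  rintro c ⟨hc, hcx⟩
  have h1 : Comm x M ≤ (Comm y ⊤).map M.subtype := (Subgroup.closure_le _).mpr
    fun d ⟨a, ha, i, hd⟩ => ⟨_, gen_mem_Comm (x := y) (Subgroup.mem_top ⟨a, ha⟩) i, by
      rw [hd, map_mul, map_inv]; simp [y, resAut_pow]⟩
  obtain ⟨m, hm, rfl⟩ := h1 hc
  have hmy : m ∈ Fixp y := Subtype.ext hcx
  have h2 : KK y ≤ (KK x).comap M.subtype := iSup_le fun a b hb => by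
    refine le_KK (a : H) ⟨?_, congrArg Subtype.val (hb.2 : y b = b)⟩
    have h3 : D y a ≤ (D x (a : H)).comap M.subtype := (Subgroup.closure_le _).mpr
      fun d ⟨i, hd⟩ => by
        show (d : H) ∈ D x (a : H)
        rw [hd, Subgroup.coe_mul, Subgroup.coe_inv, resAut_pow]
        exact gen_mem_D _ i
    exact h3 hb.1
  exact h2 (IH y hy ⟨hm, hmy⟩)

theorem quot_step {H : Type u} [Group H] [Finite H] {x : MulAut H} {p : ℕ} [Fact p.Prime]
    (hxp : x ^ p = 1) (hcop : (Nat.card H).Coprime p) (htop : Comm x ⊤ = ⊤) (N : Subgroup H)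
    [hN : N.Normal] (hNi : Inv x N)
    (IH : ∀ y : MulAut (H ⧸ N), y ^ p = 1 → Comm y ⊤ ⊓ Fixp y ≤ KK y) (f : H) (hf : x f = f) :
    ∃ k ∈ KK x, ∃ n ∈ N, x n = n ∧ f = k * n := by
  have hmap : N.map (x : H →* H) = N := by
    refine Subgroup.eq_of_le_of_card_ge (Subgroup.map_le_iff_le_comap.mpr fun m hm => hNi m hm) ?_
    exact (Nat.card_congr (N.equivMapOfInjective (x : H →* H) x.injective).toEquiv).le
  let y : MulAut (H ⧸ N) := QuotientGroup.congr N N x hmap
  set mk := QuotientGroup.mk' N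
  have hyi : ∀ (i : ℕ) (h : H), (y ^ i) (mk h) = mk ((x ^ i) h) := by
    intro i h
    induction i with
    | zero => rfl
    | succ i ih => rw [pow_succ_apply, pow_succ_apply, ih]; rfl
  have hy : y ^ p = 1 := MulEquiv.ext fun z => by
    obtain ⟨h, rfl⟩ := QuotientGroup.mk_surjective z
    show (y ^ p) (mk h) = mk h
    rw [hyi, hxp]; rfl
  have hfy : mk f ∈ Fixp y := by
    show y (mk f) = mk f
    have := hyi 1 f
    rw [pow_one, pow_one, hf] at this
    exact this
  have hfc : mk f ∈ Comm y ⊤ := by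
    have h1 : Comm x ⊤ ≤ (Comm y ⊤).comap mk := (Subgroup.closure_le _).mpr
      fun d ⟨a, _, i, hd⟩ => by
        show mk d ∈ Comm y ⊤
        rw [hd, map_mul, map_inv, ← hyi]
        exact gen_mem_Comm (Subgroup.mem_top _) i
    rw [htop] at h1
    exact h1 (Subgroup.mem_top f)
  have h2 : KK y ≤ (KK x).map mk := iSup_le fun z b hb => by
    obtain ⟨a, rfl⟩ := QuotientGroup.mk_surjective z
    have h3 : D y (mk a) ≤ (D x a).map mk := (Subgroup.closure_le _).mpr fun d ⟨i, hd⟩ =>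
      ⟨_, gen_mem_D a i, by rw [hd, map_mul, map_inv, hyi]⟩
    obtain ⟨d, hd, rfl⟩ := h3 hb.1
    have hfix : mk (x d) = mk d := by
      have h4 : y (mk d) = mk d := hb.2
      have := hyi 1 d
      rw [pow_one, pow_one, h4] at this
      exact this.symm
    obtain ⟨n, hn, hnfix⟩ := fix_lift hxp hcop (inv_inf hNi (inv_D a)) d
      ⟨QuotientGroup.eq.mp hfix.symm, (D x a).mul_mem ((D x a).inv_mem hd) (inv_D a d hd)⟩
    refine ⟨d * n, le_KK a ⟨(D x a).mul_mem hd hn.2, hnfix⟩, ?_⟩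
    rw [map_mul, show mk n = 1 from (QuotientGroup.eq_one_iff n).mpr hn.1, mul_one]
  obtain ⟨k, hk, hkf⟩ := h2 (IH y hy ⟨hfc, hfy⟩)
  refine ⟨k, hk, k⁻¹ * f, QuotientGroup.eq.mp hkf, ?_, by group⟩
  rw [map_mul, map_inv, hf, show x k = k from KK_le_fixp hk]

theorem Red.fixp_le {H : Type u} [Group H] [Finite H] {x : MulAut H} {p : ℕ} [hp : Fact p.Prime]
    (R : Red x p) (hp2 : p ≠ 2) : Fixp x ≤ KK x := by
  classical
  by_cases hsub : Subsingleton H
  · intro f _; rw [Subsingleton.elim f 1]; exact one_mem _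
  haveI : Nontrivial H := not_subsingleton_iff_nontrivial.mp hsub
  haveI := R.hsol
  have hex : ∃ n, ∃ U : Subgroup H, U.Normal ∧ Inv x U ∧ U ≠ ⊥ ∧ Nat.card U = n :=
    ⟨_, ⊤, inferInstance, inv_top, top_ne_bot, rfl⟩
  obtain ⟨V, hVn, hV, hVne, hVc⟩ := Nat.find_spec hex
  have hmin : ∀ U : Subgroup H, U.Normal → Inv x U → U ≤ V → U = ⊥ ∨ U = V := by
    intro U hUn hU hUV
    refine or_iff_not_imp_left.mpr fun hne => Subgroup.eq_of_le_of_card_ge hUV ?_
    rw [hVc]
    exact Nat.find_le ⟨U, hUn, hU, hne, rfl⟩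
  haveI := hVn
  have hab : ⁅V, V⁆ = ⊥ := (hmin _ inferInstance (inv_commutator hV hV)
    (Subgroup.commutator_le_left V V)).resolve_right
      (Group.IsSolvable.commutator_lt_of_ne_bot hVne).ne
  haveI : IsMulCommutative V := ⟨⟨fun a b => Subtype.ext (by
    have := Subgroup.commutator_mem_commutator a.2 b.2
    rw [hab, Subgroup.mem_bot] at this
    exact commutatorElement_eq_one_iff_mul_comm.mp this)⟩⟩
  obtain ⟨q, hq, hqd⟩ := Nat.exists_prime_and_dvd
    (fun h => hVne (Subgroup.card_eq_one.mp h) : Nat.card V ≠ 1)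
  haveI := Fact.mk hq
  let U : Subgroup H :=
    { carrier := {v | v ∈ V ∧ v ^ q = 1}
      one_mem' := ⟨V.one_mem, one_pow q⟩
      mul_mem' := fun {a b} ha hb => ⟨V.mul_mem ha.1 hb.1, by
        have hc : Commute a b := congrArg Subtype.val (mul_comm' (⟨a, ha.1⟩ : V) ⟨b, hb.1⟩)
        rw [hc.mul_pow, ha.2, hb.2, mul_one]⟩
      inv_mem' := fun {a} ha => ⟨V.inv_mem ha.1, by rw [inv_pow, ha.2, inv_one]⟩ }
  have hU : U = V := by
    refine (hmin U ⟨fun n hn g => ⟨hVn.conj_mem n hn.1 g, by rw [conj_pow, hn.2]; simp⟩⟩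
      (fun m hm => ⟨hV m hm.1, by rw [← map_pow, hm.2, map_one]⟩) fun a ha => ha.1).resolve_left ?_
    intro h
    obtain ⟨v, hv⟩ := exists_prime_orderOf_dvd_card' (G := V) q hqd
    have h1 : (v : H) ∈ U := ⟨v.2, by
      rw [← Subgroup.coe_pow, ← hv, pow_orderOf_eq_one]; rfl⟩
    rw [h, Subgroup.mem_bot] at h1
    rw [show v = 1 from Subtype.ext h1, orderOf_one] at hv
    exact hq.ne_one hv.symm
  have hVq : IsPGroup q V := fun v => ⟨1, Subtype.ext (by
    have h : (v : H) ∈ U := hU.symm ▸ v.2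
    simpa using h.2)⟩
  by_cases hVZ : V ≤ Subgroup.center H
  swap
  · exact R.case_noncentral hp2 V hV hVq hVne hmin hVZ
  intro f hf
  obtain ⟨k, hk, n, hn, hnf, rfl⟩ := R.hquot V hVn hV hVne f hf
  refine mul_mem hk ?_
  by_cases hn1 : n = 1
  · rw [hn1]; exact one_mem _
  have hVF : V ⊓ Fixp x = V := (hmin _ ⟨fun m hm g => by
      rw [Subgroup.mem_center_iff.mp (hVZ hm.1) g, mul_inv_cancel_right]; exact hm⟩
    (inv_inf hV inv_fixp) inf_le_left).resolve_left fun h => hn1 (by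
      have : n ∈ V ⊓ Fixp x := ⟨hn, hnf⟩
      rwa [h, Subgroup.mem_bot] at this)
  by_cases hVK : V ⊓ KK x = ⊥
  swap
  · have := (hmin _ ⟨fun m hm g => by
        rw [Subgroup.mem_center_iff.mp (hVZ hm.1) g, mul_inv_cancel_right]; exact hm⟩
      (fun m hm => by rw [show x m = m from KK_le_fixp hm.2]; exact hm) inf_le_left).resolve_left hVK
    have h : n ∈ V ⊓ KK x := this.symm ▸ hn
    exact h.2
  obtain ⟨Q, hQinv⟩ := inv_sylow R.hxp R.hcop q
  by_cases hQ : (Q : Subgroup H) = ⊤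
  · refine R.case_center hp2 hsub (fun hcen => ?_) hnf
    have hH : IsPGroup q H := by
      have h := Q.isPGroup'
      rw [hQ] at h
      exact h.of_equiv Subgroup.topEquiv
    haveI : Nontrivial (H ⧸ Subgroup.center H) := by
      obtain ⟨z, hz⟩ := SetLike.not_le_iff_exists.mp fun h => hcen (top_le_iff.mp h)
      exact ⟨⟨(z : H ⧸ Subgroup.center H), 1, fun h => hz.2 ((QuotientGroup.eq_one_iff z).mp h)⟩⟩
    haveI := (hH.to_quotient (Subgroup.center H)).center_nontrivial
    exact (Subgroup.nontrivial_iff_ne_bot _).mp inferInstance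
  · exact (R.case_transfer V hV hVq hVZ
      (fun v hv => ((inf_eq_left.mp hVF) hv : x v = v)) hVK Q hQinv hQ hVne).elim

theorem fixp_inf_le (p : ℕ) [Fact p.Prime] (hp2 : p ≠ 2) :
    ∀ (n : ℕ) (H : Type u) [Group H] [Finite H], Nat.card H = n → Group.IsSolvable H →
      (Nat.card H).Coprime p → ∀ x : MulAut H, x ^ p = 1 → Comm x ⊤ ⊓ Fixp x ≤ KK x := by
  intro n
  induction n using Nat.strong_induction_on with
  | _ n IH =>
    intro H _ _ hn hsol hcop x hxp
    haveI := hsol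
    have hsub : ∀ M : Subgroup H, Inv x M → M ≠ ⊤ → Comm x M ⊓ Fixp x ≤ KK x := fun M hM hne => by
      refine sub_step hxp M hM fun y hy => IH _ ?_ M rfl inferInstance
        (hcop.coprime_dvd_left (Subgroup.card_subgroup_dvd_card M)) y hy
      rw [← hn]
      exact lt_of_le_of_ne (Subgroup.card_le_card_group M) fun h => hne
        (Subgroup.eq_top_of_card_eq M h)
    by_cases htop : Comm x ⊤ = ⊤
    swap
    · rw [← Comm_idem hxp hcop inv_top]
      exact hsub _ (inv_Comm ⊤) htop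
    have R : Red x p := ⟨hxp, hcop, hsol, htop, hsub, fun N hN hNi hNne f hf => by
      haveI := hN
      refine quot_step hxp hcop htop N hNi (fun y hy => IH _ ?_ (H ⧸ N) rfl inferInstance
        (hcop.coprime_dvd_left (Subgroup.card_quotient_dvd_card N)) y hy) f hf
      rw [← hn, Subgroup.card_eq_card_quotient_mul_card_subgroup N]
      exact lt_mul_of_one_lt_right Nat.card_pos ((Subgroup.one_lt_card_iff_ne_bot N).mpr hNne)⟩
    exact inf_le_right.trans (R.fixp_le hp2)

end Cfsg.Agent.Flavell73
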