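import Cfsg.Agent.Flavell73.Basic

/-!
Fixed points of an automorphism of odd prime order `p` in `[H, x]` for a solvable `p'`-group `H`
are generated by the fixed points in the subgroups `[h, x]`.
-/

set_option autoImplicit false
set_option linter.unusedSectionVars false
set_option maxHeartbeats 1000000

open scoped commutatorElement IsMulCommutative

namespace Cfsg.Agent.Flavell73

variable {H : Type*} [Group H] [Finite H] {x : MulAut H} {p : ℕ} [hp : Fact p.Prime]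

/-- The situation of a minimal counterexample. -/
structure Red (x : MulAut H) (p : ℕ) : Prop where
  hxp : x ^ p = 1
  hcop : (Nat.card H).Coprime p
  hsol : Group.IsSolvable H
  htop : Comm x ⊤ = ⊤
  hsub : ∀ M : Subgroup H, Inv x M → M ≠ ⊤ → Comm x M ⊓ Fixp x ≤ KK x
  hquot : ∀ N : Subgroup H, N.Normal → Inv x N → N ≠ ⊥ → ∀ f : H, x f = f →
    ∃ k ∈ KK x, ∃ n ∈ N, x n = n ∧ f = k * n

theorem Red.eq_one_of_kills (R : Red x p) {A : Type*} [Group A] (τ : H →* A)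
    (h : ∀ (a : H) (i : ℕ), τ ((x ^ i) a) = τ a) (a : H) : τ a = 1 := by
  have : Comm x ⊤ ≤ τ.ker := (Subgroup.closure_le _).mpr fun d ⟨b, _, i, hd⟩ => by
    show τ d = 1
    rw [hd, map_mul, map_inv, h, inv_mul_cancel]
  rw [R.htop] at this
  exact this (Subgroup.mem_top a)

theorem Red.center_fixed_or (R : Red x p) :
    (∀ z ∈ Subgroup.center H, x z = z) ∨ Fixp x ≤ KK x := by
  by_cases hall : ∀ z ∈ Subgroup.center H, x z = z
  · exact Or.inl hall
  right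
  push Not at hall
  obtain ⟨z, hz, hzx⟩ := hall
  set Z := Subgroup.center H
  set Z₁ := Comm x Z with hZ₁
  have hle : Z₁ ≤ Z := Comm_le inv_center
  have hn : Z₁.Normal := ⟨fun n hn g => by
    rw [Subgroup.mem_center_iff.mp (hle hn) g, mul_inv_cancel_right]; exact hn⟩
  have hne : Z₁ ≠ ⊥ := fun h => hzx (by
    have := gen_mem_Comm (x := x) hz 1
    rw [← hZ₁, h, Subgroup.mem_bot, pow_one, inv_mul_eq_one] at this
    exact this.symm)
  haveI : IsMulCommutative Z := inferInstance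
  let y := resAut (x := x) Z inv_center
  have hy : y ^ p = 1 := resAut_pow_one _ inv_center R.hxp
  intro f hf
  obtain ⟨k, hk, n, hn', hnf, rfl⟩ := R.hquot Z₁ hn (inv_Comm Z) hne f hf
  have h1 : (⟨n, hle hn'⟩ : Z) ∈ Comm y ⊤ := by
    have : Z₁ ≤ (Comm y ⊤).map Z.subtype := (Subgroup.closure_le _).mpr fun d ⟨a, ha, i, hd⟩ =>
      ⟨_, gen_mem_Comm (x := y) (Subgroup.mem_top ⟨a, ha⟩) i, by
        rw [hd, map_mul, map_inv]; simp [y, resAut_pow]⟩
    obtain ⟨m, hm, e⟩ := this hn'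
    exact (Subtype.ext e.symm : (⟨n, hle hn'⟩ : Z) = m) ▸ hm
  have h2 : y ⟨n, hle hn'⟩ = ⟨n, hle hn'⟩ := Subtype.ext hnf
  have h3 := avg_kills y (MonoidHom.id Z) hy h1
  rw [avg_fixed y _ p h2] at h3
  have h4 : n = 1 := eq_one_of_pow R.hcop (by simpa using congrArg Subtype.val h3)
  rw [h4, mul_one]; exact hk

theorem Red.case_center (R : Red x p) (hp2 : p ≠ 2) (hne : ¬ Subsingleton H)
    (hC : Subgroup.center H ≠ ⊤ → Subgroup.center (H ⧸ Subgroup.center H) ≠ ⊥) :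
    Fixp x ≤ KK x := by
  rcases R.center_fixed_or with hfix | h
  swap
  · exact h
  by_cases hKZ : KK x ⊓ Subgroup.center H = ⊥
  swap
  · intro f hf
    have hn : (KK x ⊓ Subgroup.center H).Normal := ⟨fun n hn g => by
      rw [Subgroup.mem_center_iff.mp hn.2 g, mul_inv_cancel_right]; exact hn⟩
    obtain ⟨k, hk, n, hn', -, rfl⟩ := R.hquot _ hn
      (fun m hm => by rw [hfix m hm.2]; exact hm) hKZ f hf
    exact mul_mem hk hn'.1
  exfalso
  haveI := R.hsol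
  haveI : Nontrivial H := not_subsingleton_iff_nontrivial.mp hne
  have hcen : Subgroup.center H ≠ ⊤ := fun h => by
    obtain ⟨a, ha⟩ := exists_ne (1 : H)
    refine ha (R.eq_one_of_kills (MonoidHom.id H) (fun b i => ?_) a)
    exact pow_fix (hfix b (h ▸ Subgroup.mem_top b)) i
  obtain ⟨y₀, hy₀, hy₀1⟩ := (Subgroup.ne_bot_iff_exists_ne_one).mp (hC hcen) |>
    fun ⟨a, ha⟩ => (⟨(a : H ⧸ Subgroup.center H), a.2, fun h => ha (Subtype.ext h)⟩ :
      ∃ a ∈ Subgroup.center (H ⧸ Subgroup.center H), a ≠ 1)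
  obtain ⟨w₀, rfl⟩ := QuotientGroup.mk_surjective y₀
  set Z := Subgroup.center H with hZdef
  set mk := QuotientGroup.mk' Z
  set Y : Subgroup H := (Subgroup.center (H ⧸ Z)).comap mk with hYdef
  have hY : ∀ {y : H}, y ∈ Y → ∀ h : H, ⁅h, y⁆ ∈ Z := fun {y} hy h => by
    rw [← QuotientGroup.eq_one_iff]
    show mk ⁅h, y⁆ = 1
    rw [map_commutatorElement, commutatorElement_eq_one_iff_mul_comm]
    exact Subgroup.mem_center_iff.mp hy (mk h)
  have hYinv : Inv x Y := fun y hy => Subgroup.mem_center_iff.mpr fun g => by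
    obtain ⟨h, rfl⟩ := QuotientGroup.mk_surjective g
    have h1 : x ⁅x.symm h, y⁆ ∈ Z := inv_center _ (hY hy _)
    rw [map_commutatorElement, MulEquiv.apply_symm_apply] at h1
    rw [← commutatorElement_eq_one_iff_mul_comm]
    show ⁅mk h, mk (x y)⁆ = 1
    rw [← map_commutatorElement]
    exact (QuotientGroup.eq_one_iff _).mpr h1
  have hZY : Z ≤ Y := fun z hz => Subgroup.mem_center_iff.mpr fun g => by
    have : mk z = 1 := (QuotientGroup.eq_one_iff _).mpr hz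
    simp [this]
  have hom1 : ∀ {y : H}, y ∈ Y → ∀ a b : H, ⁅a * b, y⁆ = ⁅a, y⁆ * ⁅b, y⁆ := fun {y} hy a b => by
    have h1 := Subgroup.mem_center_iff.mp (hY hy b) a
    have h2 := Subgroup.mem_center_iff.mp (hY hy b) ⁅a, y⁆
    calc ⁅a * b, y⁆ = a * ⁅b, y⁆ * a⁻¹ * ⁅a, y⁆ := by simp only [commutatorElement_def]; group
      _ = ⁅a, y⁆ * ⁅b, y⁆ := by rw [h1, mul_inv_cancel_right, ← h2]
  -- fixed elements of `Y` are central
  have hfixY : ∀ y ∈ Y, x y = y → y ∈ Z := fun y hy hxy => by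
    let τ : H →* H :=
      { toFun := fun h => ⁅h, y⁆
        map_one' := commutatorElement_one_left y
        map_mul' := hom1 hy }
    refine Subgroup.mem_center_iff.mpr fun g => ?_
    have h := R.eq_one_of_kills τ (fun a i => ?_) g
    · exact commutatorElement_eq_one_iff_mul_comm.mp h
    show ⁅(x ^ i) a, y⁆ = ⁅a, y⁆
    have h1 : (x ^ i) ⁅a, y⁆ = ⁅a, y⁆ := pow_fix (hfix _ (hY hy a)) i
    rw [map_commutatorElement, pow_fix hxy i] at h1
    exact h1
  have hinj : ∀ j : ℕ, ¬ p ∣ j → ∀ y ∈ Y, y⁻¹ * (x ^ j) y ∈ Z → y ∈ Z := by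
    intro j hj y hy hz
    set z := y⁻¹ * (x ^ j) y with hzdef
    have h1 : ∀ k : ℕ, ((x ^ j) ^ k) y = y * z ^ k := by
      intro k
      induction k with
      | zero => simp
      | succ k ih =>
        rw [pow_succ_apply, ih, map_mul, map_pow, pow_fix (hfix z hz) j]
        have : (x ^ j) y = y * z := by rw [hzdef]; group
        rw [this, pow_succ']; group
    have h2 := h1 p
    rw [← pow_mul, mul_comm, pow_mul, R.hxp, one_pow] at h2
    have h3 : z ^ p = 1 := by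
      have : y * z ^ p = y * 1 := by rw [mul_one]; exact h2.symm
      exact mul_left_cancel this
    have h4 : (x ^ j) y = y := by
      have h5 := eq_one_of_pow R.hcop h3
      rw [hzdef, inv_mul_eq_one] at h5
      exact h5.symm
    obtain ⟨m, hm⟩ := exists_pow_eq_self_of_coprime (x := x) (n := j) (by
      exact ((hp.out.coprime_iff_not_dvd.mpr hj).coprime_dvd_left
        (orderOf_dvd_of_pow_eq_one R.hxp)).symm)
    refine hfixY y hy ?_
    conv_lhs => rw [← hm]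
    exact pow_fix h4 m
  -- the subgroup `N₁`
  set N := commutator H with hNdef
  have hNinv : Inv x N := inv_commutator inv_top inv_top
  have hNtop : N ≠ ⊤ := (IsSolvable.commutator_lt_top_of_nontrivial (G := H)).ne
  set N₁ := (KK x ⊓ N) ⊔ Comm x N
  have hN₁Z : ∀ z ∈ N₁, z ∈ Z → z = 1 := fun z hz hzZ => by
    obtain ⟨a, ha, b, hb, e⟩ := Cfsg.Agent.Coprime.exists_mul_of_mem_sup
      (N := Comm x N) (H := KK x ⊓ N)
      (Cfsg.Agent.Coprime.le_normalizer_of_conj_mem fun a ha c hc => conj_Comm ha.2 hc)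
      (by rwa [sup_comm] : z ∈ Comm x N ⊔ (KK x ⊓ N))
    have hbF : b ∈ Fixp x := KK_le_fixp hb.1
    have haF : a ∈ Fixp x := by
      have : a = z * b⁻¹ := by rw [e, mul_inv_cancel_right]
      rw [this]
      exact mul_mem (hfix z hzZ) (inv_mem hbF)
    have haK : a ∈ KK x := R.hsub N hNinv hNtop ⟨ha, haF⟩
    have : z ∈ KK x ⊓ Z := ⟨e ▸ mul_mem haK hb.1, hzZ⟩
    rwa [hKZ, Subgroup.mem_bot] at this
  have hcommN₁ : ∀ (h : H) (i j : ℕ), ⁅h⁻¹ * (x ^ i) h, h⁻¹ * (x ^ j) h⁆ ∈ N₁ := by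
    intro h i j
    have hm : ⁅h⁻¹ * (x ^ i) h, h⁻¹ * (x ^ j) h⁆ ∈ N ⊓ D x h :=
      ⟨Subgroup.commutator_mem_commutator (Subgroup.mem_top _) (Subgroup.mem_top _), by
        show ⁅h⁻¹ * (x ^ i) h, h⁻¹ * (x ^ j) h⁆ ∈ D x h
        simp only [commutatorElement_def]
        exact mul_mem (mul_mem (mul_mem (gen_mem_D h i) (gen_mem_D h j))
          (inv_mem (gen_mem_D h i))) (inv_mem (gen_mem_D h j))⟩
    obtain ⟨f, hfM, hff, c, hc, e⟩ := decomp R.hxp R.hcop (inv_inf hNinv (inv_D h)) hm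
    rw [e]
    exact mul_mem ((le_sup_left : KK x ⊓ N ≤ N₁) ⟨le_KK h ⟨hfM.2, hff⟩, hfM.1⟩)
      ((le_sup_right : Comm x N ≤ N₁) (Comm_mono inf_le_left hc))
  have hp3 : ¬ p ∣ 2 := fun h => hp2 ((Nat.prime_dvd_prime_iff_eq hp.out Nat.prime_two).mp h)
  have hp1 : ¬ p ∣ 1 := fun h => hp.out.ne_one (Nat.dvd_one.mp h)
  have hr1 : ∀ y ∈ Y, y⁻¹ * x y ∈ Z → y ∈ Z := fun y hy h => hinj 1 hp1 y hy (by rwa [pow_one])
  -- every `y ∈ Y` is central
  have hkey : ∀ y ∈ Y, y ∈ Z := by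
    intro y hy
    have hy2 : x (x y) ∈ Y := hYinv _ (hYinv _ hy)
    set b := y⁻¹ * x y with hb
    set d := y⁻¹ * x (x y) with hd
    have hbY : b ∈ Y := mul_mem (inv_mem hy) (hYinv _ hy)
    have hdY : d ∈ Y := mul_mem (inv_mem hy) hy2
    set w := (x (x d))⁻¹ * x d * x (x b) * b⁻¹ with hw
    have hwY : w ∈ Y := mul_mem (mul_mem (mul_mem (inv_mem (hYinv _ (hYinv _ hdY)))
      (hYinv _ hdY)) (hYinv _ (hYinv _ hbY))) (inv_mem hbY)
    have hwg : ∀ g : H, ⁅x (x g), w⁆ = 1 := by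
      intro g
      set a := g⁻¹ * x g with ha
      set c := g⁻¹ * x (x g) with hc
      have e1 : x (g * y) = x g * x y := map_mul x g y
      have hu1 := hcommN₁ (g * y) 1 2
      have hac : ⁅a, c⁆ ∈ N₁ := by
        have := hcommN₁ g 1 2
        rwa [pow_succ_apply x 1, pow_one] at this
      have hbd : ⁅b, d⁆ ∈ N₁ := by
        have := hcommN₁ y 1 2
        rwa [pow_succ_apply x 1, pow_one] at this
      rw [pow_succ_apply x 1, pow_one, map_mul, map_mul] at hu1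
      set z₁ := ⁅a⁻¹, y⁻¹⁆ with hz₁
      set z₂ := ⁅c⁻¹, y⁻¹⁆ with hz₂
      have hz₁Z : z₁ ∈ Z := hY (inv_mem hy) _
      have hz₂Z : z₂ ∈ Z := hY (inv_mem hy) _
      have f1 : (g * y)⁻¹ * (x g * x y) = z₁ * (a * b) := by
        rw [← mul_assoc z₁, ← Subgroup.mem_center_iff.mp hz₁Z a, hz₁, ha, hb, commutatorElement_def]
        group
      have f2 : (g * y)⁻¹ * (x (x g) * x (x y)) = z₂ * (c * d) := by
        rw [← mul_assoc z₂, ← Subgroup.mem_center_iff.mp hz₂Z c, hz₂, hc, hd, commutatorElement_def]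
        group
      rw [f1, f2] at hu1
      have f3 : ⁅z₁ * (a * b), z₂ * (c * d)⁆ = ⁅a * b, c * d⁆ := by
        have hl : ∀ z ∈ Z, ∀ u v : H, ⁅z * u, v⁆ = ⁅u, v⁆ := fun z hz u v => by
          have h1 := Subgroup.mem_center_iff.mp hz (u * v * u⁻¹)
          calc ⁅z * u, v⁆ = z * (u * v * u⁻¹) * z⁻¹ * v⁻¹ := by
                simp only [commutatorElement_def]; group
            _ = _ := by rw [← h1, mul_inv_cancel_right, commutatorElement_def]
        rw [hl z₁ hz₁Z, ← commutatorElement_inv, hl z₂ hz₂Z, commutatorElement_inv]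
      rw [f3] at hu1
      have hadZ := hY hdY a
      have hbcd : ∀ t : H, ⁅b, t⁆ ∈ Z := fun t => by
        rw [← commutatorElement_inv]; exact inv_mem (hY hbY t)
      have f4 : ⁅a * b, c * d⁆ = ⁅a, c⁆ * (⁅a, d⁆ * ⁅b, c⁆) * ⁅b, d⁆ := by
        calc ⁅a * b, c * d⁆ = a * (⁅b, c⁆ * (c * ⁅b, d⁆ * c⁻¹)) * a⁻¹ *
              (⁅a, c⁆ * (c * ⁅a, d⁆ * c⁻¹)) := by
              simp only [commutatorElement_def]; group
          _ = ⁅b, c⁆ * ⁅b, d⁆ * (⁅a, c⁆ * ⁅a, d⁆) := by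
              rw [Subgroup.mem_center_iff.mp (hbcd d) c, mul_inv_cancel_right,
                Subgroup.mem_center_iff.mp hadZ c, mul_inv_cancel_right,
                Subgroup.mem_center_iff.mp (mul_mem (hbcd c) (hbcd d)) a, mul_inv_cancel_right]
          _ = _ := by
              rw [← Subgroup.mem_center_iff.mp (mul_mem (hbcd c) (hbcd d))]; group
      rw [f4] at hu1
      have hzN : ⁅a, d⁆ * ⁅b, c⁆ ∈ N₁ := by
        have e : ⁅a, d⁆ * ⁅b, c⁆ = ⁅a, c⁆⁻¹ * (⁅a, c⁆ * (⁅a, d⁆ * ⁅b, c⁆) * ⁅b, d⁆) *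
            ⁅b, d⁆⁻¹ := by group
        rw [e]
        exact mul_mem (mul_mem (inv_mem hac) hu1) (inv_mem hbd)
      have h0 := hN₁Z _ hzN (mul_mem hadZ (hbcd c))
      -- rewrite in terms of commutators with `x (x g)`
      have hinvl : ∀ {t : H}, t ∈ Y → ∀ u v : H, ⁅u⁻¹ * v, t⁆ = ⁅u, t⁆⁻¹ * ⁅v, t⁆ := by
        intro t ht u v
        have h := hom1 ht u (u⁻¹ * v)
        rw [mul_inv_cancel_left] at h
        rw [h, inv_mul_cancel_left]
      have hmul2 : ∀ t s : H, s ∈ Y → ⁅x (x g), t * s⁆ = ⁅x (x g), t⁆ * ⁅x (x g), s⁆ := fun t s hs => by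
        have h1 := Subgroup.mem_center_iff.mp (hY hs (x (x g))) t
        calc ⁅x (x g), t * s⁆ = ⁅x (x g), t⁆ * (t * ⁅x (x g), s⁆ * t⁻¹) := by
              simp only [commutatorElement_def]; group
          _ = _ := by rw [h1, mul_inv_cancel_right]
      have hinv2 : ∀ t : H, t ∈ Y → ⁅x (x g), t⁻¹⁆ = ⁅x (x g), t⁆⁻¹ := fun t ht => by
        have h := hmul2 t t⁻¹ (inv_mem ht)
        rw [mul_inv_cancel, commutatorElement_one_right] at h
        exact (inv_eq_of_mul_eq_one_right h.symm).symm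
      have hx2 : ∀ u v : H, ⁅u, v⁆ ∈ Z → ⁅x u, x v⁆ = ⁅u, v⁆ := fun u v h => by
        rw [← map_commutatorElement, hfix _ h]
      have g1 : ⁅a, d⁆ = ⁅x (x g), x (x d)⁆⁻¹ * ⁅x (x g), x d⁆ := by
        rw [ha, hinvl hdY, hx2 (x g) (x d) (hY (hYinv _ hdY) _) |>.trans rfl |> fun h =>
          show ⁅x g, d⁆ = ⁅x (x g), x d⁆ from (hx2 (x g) d (hY hdY _)).symm,
          ← hx2 g d (hY hdY _), ← hx2 (x g) (x d) (hY (hYinv _ hdY) _)]
      have g2 : ⁅b, c⁆ = ⁅x (x g), x (x b)⁆ * ⁅x (x g), b⁆⁻¹ := by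
        rw [← commutatorElement_inv c b, hc, hinvl hbY, mul_inv_rev, inv_inv,
          ← hx2 g b (hY hbY _), ← hx2 (x g) (x b) (hY (hYinv _ hbY) _)]
        exact Subgroup.mem_center_iff.mp (hY (hYinv _ (hYinv _ hbY)) _) _
      rw [g1, g2] at h0
      rw [hw, hmul2 _ _ (inv_mem hbY), hmul2 _ _ (hYinv _ (hYinv _ hbY)),
        hmul2 _ _ (hYinv _ hdY), hinv2 _ (hYinv _ (hYinv _ hdY)), hinv2 _ hbY]
      rw [← h0]; group
    have hwZ : w ∈ Z := Subgroup.mem_center_iff.mpr fun t => by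
      have := hwg (x.symm (x.symm t))
      rw [MulEquiv.apply_symm_apply, MulEquiv.apply_symm_apply] at this
      exact commutatorElement_eq_one_iff_mul_comm.mp this
    have hY₁ : ∀ t ∈ Y, t⁻¹ * x t ∈ Y := fun t ht => mul_mem (inv_mem ht) (hYinv _ ht)
    set r := (y⁻¹ * x y)⁻¹ * x (y⁻¹ * x y) with hr
    have hrY : r ∈ Y := hY₁ _ (hY₁ y hy)
    have hrel : r⁻¹ * x (x r) * w ∈ Z := by
      let C := Subgroup.center (H ⧸ Z)
      let q : Y →* C :=
        { toFun := fun t => ⟨mk (t : H), t.2⟩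
          map_one' := Subtype.ext (map_one mk)
          map_mul' := fun s t => Subtype.ext (map_mul mk (s : H) t) }
      let Y1 : Y := ⟨x y, hYinv _ hy⟩
      let Y2 : Y := ⟨x (x y), hy2⟩
      let Y3 : Y := ⟨x (x (x y)), hYinv _ hy2⟩
      let Y4 : Y := ⟨x (x (x (x y))), hYinv _ (hYinv _ hy2)⟩
      let Y0 : Y := ⟨y, hy⟩
      have h := comm_identity (q Y0) (q Y1) (q Y2) (q Y3) (q Y4)
      have h2 := congrArg Subtype.val h
      simp only [Subgroup.coe_mul, Subgroup.coe_inv, Subgroup.coe_one] at h2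
      rw [← QuotientGroup.eq_one_iff]
      show mk (r⁻¹ * x (x r) * w) = 1
      simp only [hr, hw, hb, hd, map_mul, map_inv, mul_inv_rev, inv_inv] at h2 ⊢
      simp only [q, MonoidHom.coe_mk, OneHom.coe_mk, Y0, Y1, Y2, Y3, Y4] at h2
      refine Eq.trans ?_ h2
      group
    have hr2 : r⁻¹ * (x ^ 2) r ∈ Z := by
      rw [pow_succ_apply, pow_one]
      simpa [mul_assoc] using mul_mem hrel (inv_mem hwZ)
    exact hr1 _ hy (hr1 _ (hY₁ y hy) (hinj 2 hp3 r hrY hr2))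
  exact hy₀1 ((QuotientGroup.eq_one_iff _).mpr (hkey w₀ hy₀))

theorem Red.case_transfer (R : Red x p) {q : ℕ} [Fact q.Prime] (V : Subgroup H) [V.Normal]
    (hV : Inv x V) (hVq : IsPGroup q V) (hVZ : V ≤ Subgroup.center H)
    (hVfix : ∀ v ∈ V, x v = v) (hVK : V ⊓ KK x = ⊥) (Q : Sylow q H)
    (hQinv : Inv x (Q : Subgroup H)) (hQ : (Q : Subgroup H) ≠ ⊤) (hVne : V ≠ ⊥) : False := by
  haveI : IsMulCommutative V := ⟨⟨fun a b => Subtype.ext
    (Subgroup.mem_center_iff.mp (hVZ b.2) a)⟩⟩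
  have hVQ : V ≤ (Q : Subgroup H) := by
    obtain ⟨P, hP⟩ := hVq.exists_le_sylow
    obtain ⟨g, hg⟩ := MulAction.exists_smul_eq H P Q
    intro v hv
    rw [← hg, Sylow.smul_def]
    have h1 := Subgroup.mem_center_iff.mp (hVZ hv) g
    exact ⟨v, hP hv, show g * v * g⁻¹ = v by rw [h1, mul_inv_cancel_right]⟩
  set Q₁ := (KK x ⊓ (Q : Subgroup H)) ⊔ Comm x (Q : Subgroup H)
  have hcent : ∀ v ∈ V, ∀ g : H, g * v = v * g := fun v hv g =>
    Subgroup.mem_center_iff.mp (hVZ hv) g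
  have hdis : V ⊓ Q₁ = ⊥ := by
    rw [eq_bot_iff]
    rintro z ⟨hzV, hz⟩
    obtain ⟨a, ha, b, hb, e⟩ := Cfsg.Agent.Coprime.exists_mul_of_mem_sup
      (N := Comm x (Q : Subgroup H)) (H := KK x ⊓ (Q : Subgroup H))
      (Cfsg.Agent.Coprime.le_normalizer_of_conj_mem fun a ha c hc => conj_Comm ha.2 hc)
      (by rwa [sup_comm] : z ∈ Comm x (Q : Subgroup H) ⊔ (KK x ⊓ (Q : Subgroup H)))
    have haF : a ∈ Fixp x := by
      have : a = z * b⁻¹ := by rw [e, mul_inv_cancel_right]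
      rw [this]
      exact mul_mem (hVfix z hzV) (inv_mem (KK_le_fixp hb.1))
    have haK : a ∈ KK x := R.hsub _ hQinv hQ ⟨ha, haF⟩
    exact hVK ▸ ⟨hzV, e ▸ mul_mem haK hb.1⟩
  have hsur : ∀ g ∈ (Q : Subgroup H), ∃ v ∈ V, ∃ r ∈ Q₁, g = v * r := by
    intro g hg
    obtain ⟨f, hfQ, hf, c, hc, rfl⟩ := decomp R.hxp R.hcop hQinv hg
    obtain ⟨k, hk, v, hv, -, rfl⟩ := R.hquot V inferInstance hV hVne f hf
    have hkQ : k ∈ (Q : Subgroup H) := by
      have := mul_mem hfQ (inv_mem (hVQ hv))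
      rwa [mul_inv_cancel_right] at this
    refine ⟨v, hv, k * c, mul_mem ((le_sup_left : _ ≤ Q₁) ⟨hk, hkQ⟩)
      ((le_sup_right : _ ≤ Q₁) hc), ?_⟩
    rw [hcent v hv k, mul_assoc]
  obtain ⟨π, hπ⟩ := exists_proj V (Q : Subgroup H) Q₁ hVQ
    (sup_le inf_le_right (Comm_le hQinv)) (fun v hv g _ => (hcent v hv g).symm) hdis hsur
  obtain ⟨v, hv, hv1⟩ := (Subgroup.bot_or_exists_ne_one V).resolve_left hVne
  have htr : MonoidHom.transfer π v = (⟨v, hv⟩ : V) ^ (Q : Subgroup H).index := by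
    rw [MonoidHom.transfer_eq_pow π v]
    · rw [show (⟨v ^ (Q : Subgroup H).index, _⟩ : (Q : Subgroup H)) =
          ⟨v, hVQ hv⟩ ^ (Q : Subgroup H).index from Subtype.ext rfl, map_pow, hπ v hv]
    · intro k g₀ hk
      rw [mul_assoc, ← hcent _ (pow_mem hv k) g₀, inv_mul_cancel_left]
  let τ := avg x (MonoidHom.transfer π) p
  have hτ : τ v = 1 := R.eq_one_of_kills τ
    (fun a i => avg_inv_pow x _ R.hxp i a) v
  have h1 := avg_fixed x (MonoidHom.transfer π) p (hVfix v hv)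
  rw [show avg x (MonoidHom.transfer π) p v = 1 from hτ, htr, ← pow_mul] at h1
  have h2 : v ^ ((Q : Subgroup H).index * p) = 1 := by
    simpa using (congrArg Subtype.val h1).symm
  have hcopq : (orderOf v).Coprime ((Q : Subgroup H).index * p) := by
    obtain ⟨k, hk⟩ := IsPGroup.iff_orderOf.mp hVq ⟨v, hv⟩
    rw [Subgroup.orderOf_mk] at hk
    rw [hk]
    refine Nat.Coprime.mul_right ?_ ?_
    · exact Nat.Coprime.pow_left _ ((Fact.out : q.Prime).coprime_iff_not_dvd.mpr Q.not_dvd_index)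
    · rw [← hk]
      exact R.hcop.coprime_dvd_left (orderOf_dvd_natCard v)
  refine hv1 ?_
  have := orderOf_dvd_of_pow_eq_one h2
  exact orderOf_eq_one_iff.mp (Nat.Coprime.eq_one_of_dvd hcopq this)

end Cfsg.Agent.Flavell73
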