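import Cfsg.Agent.Flavell73.Main

/-!
The case of a minimal normal invariant subgroup which is not central.
-/

set_option autoImplicit false
set_option linter.unusedSectionVars false
set_option maxHeartbeats 1000000

open scoped commutatorElement IsMulCommutative

namespace Cfsg.Agent.Flavell73

variable {H : Type*} [Group H] [Finite H] {x : MulAut H} {p : ℕ} [hp : Fact p.Prime]

/-- The conjugation action on a normal abelian subgroup, additively. -/
noncomputable def phi (V : Subgroup H) [V.Normal] :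
    H →* AddMonoid.End (Additive V) where
  toFun t := MonoidHom.toAdditive ((MulAut.conjNormal t : V ≃* V) : V →* V)
  map_one' := by
    refine AddMonoidHom.ext fun v => ?_
    show Additive.ofMul (MulAut.conjNormal (1 : H) (Additive.toMul v)) = v
    rw [map_one]; rfl
  map_mul' s t := by
    refine AddMonoidHom.ext fun v => ?_
    show Additive.ofMul (MulAut.conjNormal (s * t) (Additive.toMul v)) =
      Additive.ofMul (MulAut.conjNormal s (MulAut.conjNormal t (Additive.toMul v)))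
    rw [map_mul]; rfl

theorem phi_apply (V : Subgroup H) [V.Normal] (t : H) (v : Additive V) :
    ((Additive.toMul (phi V t v) : V) : H) = t * (Additive.toMul v : V) * t⁻¹ :=
  MulAut.conjNormal_apply t (Additive.toMul v)

theorem Red.case_noncentral (R : Red x p) (hp2 : p ≠ 2) {q : ℕ} [Fact q.Prime]
    (V : Subgroup H) [hVn : V.Normal] (hV : Inv x V) [IsMulCommutative V]
    (hVq : IsPGroup q V) (hVne : V ≠ ⊥)
    (hmin : ∀ U : Subgroup H, U.Normal → Inv x U → U ≤ V → U = ⊥ ∨ U = V)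
    (hVZ : ¬ V ≤ Subgroup.center H) : Fixp x ≤ KK x := by
  haveI := R.hsol
  suffices hW : ∀ v ∈ V, x v = v → v ∈ KK x by
    intro f hf
    obtain ⟨k, hk, n, hn, hnf, rfl⟩ := R.hquot V hVn hV hVne f hf
    exact mul_mem hk (hW n hn hnf)
  by_contra hW
  push Not at hW
  obtain ⟨w, hwV, hwx, hwK⟩ := hW
  let y := resAut (x := x) V hV
  have hy : y ^ p = 1 := resAut_pow_one _ hV R.hxp
  let e : V →* V := avg y (MonoidHom.id V) p
  have hefix : ∀ v : V, x (e v : H) = e v := fun v => congrArg Subtype.val (avg_id_fix y hy v)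
  have hVVZ : V ⊓ Subgroup.center H = ⊥ := (hmin _ inferInstance (inv_inf hV inv_center)
    inf_le_left).resolve_right fun h => hVZ (h ▸ inf_le_right)
  let cj : H → V → V := fun a v => MulAut.conjNormal a v
  have hcj : ∀ a v, ((cj a v : V) : H) = a * v * a⁻¹ := fun a v => MulAut.conjNormal_apply a v
  -- the subgroup `L`
  let L : Subgroup H :=
    { carrier := {a | ∀ v : V, (((e v)⁻¹ * e (cj a v) : V) : H) ∈ KK x}
      one_mem' := fun v => by
        have : cj 1 v = v := Subtype.ext (by rw [hcj]; simp)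
        rw [this, inv_mul_cancel]; exact one_mem _
      mul_mem' := fun {a b} ha hb v => by
        have h1 : cj (a * b) v = cj a (cj b v) := Subtype.ext (by simp only [hcj]; group)
        have h2 : (((e v)⁻¹ * e (cj b v) : V) : H) * (((e (cj b v))⁻¹ * e (cj a (cj b v)) : V) : H)
            = (((e v)⁻¹ * e (cj (a * b) v) : V) : H) := by
          rw [h1, ← Subgroup.coe_mul]; group
        rw [← h2]
        exact mul_mem (hb v) (ha _)
      inv_mem' := fun {a} ha v => by
        have h := inv_mem (ha (cj a⁻¹ v))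
        have h1 : cj a (cj a⁻¹ v) = v := Subtype.ext (by simp only [hcj]; group)
        rw [h1, ← Subgroup.coe_inv] at h
        simpa [mul_comm] using h }
  have hLmem : ∀ a, a ∈ L ↔ ∀ v : V, (((e v)⁻¹ * e (cj a v) : V) : H) ∈ KK x := fun _ => Iff.rfl
  have hLinv : Inv x L := fun a ha v => by
    obtain ⟨u, rfl⟩ := y.surjective v
    have h1 : cj (x a) (y u) = y (cj a u) := Subtype.ext (by
      show ((cj (x a) (y u) : V) : H) = x (cj a u : H)
      rw [hcj, hcj, map_mul, map_mul, map_inv]; rfl)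
    rw [h1, avg_inv y _ hy, avg_inv y _ hy]
    exact ha u
  have hFL : Fixp x ≤ L := fun c hc v => by
    obtain ⟨k, hk, v₀, hv₀, hv₀x, rfl⟩ := R.hquot V hVn hV hVne c hc
    have hkx : x k = k := KK_le_fixp hk
    let κ : V →* V := ((MulAut.conjNormal k : V ≃* V) : V →* V)
    have hv : cj (k * v₀) v = κ v := Subtype.ext (by
      have h2 : v₀ * (v : H) = v * v₀ := congrArg Subtype.val (mul_comm' (⟨v₀, hv₀⟩ : V) v)
      show ((cj (k * v₀) v : V) : H) = ((MulAut.conjNormal k v : V) : H)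
      rw [hcj, MulAut.conjNormal_apply]
      calc k * v₀ * (v : H) * (k * v₀)⁻¹ = k * (v₀ * v) * (v₀⁻¹ * k⁻¹) := by group
        _ = k * v * k⁻¹ := by rw [h2]; group)
    have hpow : ∀ i, (y ^ i) (κ v) = κ ((y ^ i) v) := fun i => Subtype.ext (by
      show (((y ^ i) (κ v) : V) : H) = ((MulAut.conjNormal k ((y ^ i) v) : V) : H)
      rw [resAut_pow, MulAut.conjNormal_apply, resAut_pow]
      show (x ^ i) ((MulAut.conjNormal k v : V) : H) = _
      rw [MulAut.conjNormal_apply, map_mul, map_mul, map_inv, pow_fix hkx])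
    have he : e (κ v) = κ (e v) := by
      simp only [e, avg_apply, MonoidHom.id_apply, map_prod, hpow]
    rw [hv, he]
    show ((e v : V) : H)⁻¹ * ((MulAut.conjNormal k (e v) : V) : H) ∈ KK x
    rw [MulAut.conjNormal_apply]
    have h1 : (e v : H)⁻¹ * k * (e v : H) ∈ KK x := by
      have := conj_KK (x := x) (c := (e v : H)⁻¹) (by rw [map_inv, hefix]) hk
      rwa [inv_inv] at this
    have : (e v : H)⁻¹ * (k * (e v : H) * k⁻¹) = ((e v : H)⁻¹ * k * (e v : H)) * k⁻¹ := by group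
    rw [this]
    exact mul_mem h1 (inv_mem hk)
  have hML : ∀ M : Subgroup H, Inv x M → V ≤ M → M ≠ ⊤ → M ≤ L := by
    intro M hM hVM hMt m hm
    obtain ⟨f, -, hf, c, hc, rfl⟩ := decomp R.hxp R.hcop hM hm
    refine mul_mem (hFL hf) fun v => ?_
    have hcomm : (((cj c v) * v⁻¹ : V) : H) ∈ Comm x M := by
      have h1 := conj_Comm (hVM v.2) (inv_mem hc)
      have : (((cj c v) * v⁻¹ : V) : H) = c * ((v : H) * c⁻¹ * (v : H)⁻¹) := by
        rw [Subgroup.coe_mul, Subgroup.coe_inv, hcj]; group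
      rw [this]
      exact mul_mem hc h1
    have h2 : e ((cj c v) * v⁻¹) ∈ (Comm x M).subgroupOf V := by
      rw [show e = avg y (MonoidHom.id V) p from rfl, avg_apply]
      refine prod_mem fun i _ => ?_
      show (((y ^ i) ((cj c v) * v⁻¹) : V) : H) ∈ Comm x M
      rw [resAut_pow]
      exact (inv_Comm M).pow i hcomm
    have h3 : ((e v)⁻¹ * e (cj c v) : V) = e ((cj c v) * v⁻¹) := by
      rw [map_mul, map_inv, mul_comm]
    rw [h3]
    exact R.hsub M hM hMt ⟨h2, hefix _⟩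
  have hwp : ∀ k : ℕ, w ^ k ∈ KK x → (orderOf w).Coprime k → False := fun k h1 h2 =>
    hwK (mem_of_pow_mem _ h1 h2)
  have hkill : ∀ M : Subgroup H, M.Normal → Inv x M → M ≤ L →
      ∀ a ∈ M, ∀ v ∈ V, a * v = v * a := by
    intro M hMn hM hMle a ha v hv
    by_contra hne
    have hU : ⁅M, V⁆ = V := by
      haveI := hMn
      refine (hmin _ inferInstance (inv_commutator hM hV)
        (Subgroup.commutator_le_right M V)).resolve_left fun h => hne ?_
      have h1 := Subgroup.commutator_mem_commutator ha hv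
      rw [h, Subgroup.mem_bot] at h1
      exact commutatorElement_eq_one_iff_mul_comm.mp h1
    have h1 : ⁅M, V⁆ ≤ (((KK x).subgroupOf V).comap e).map V.subtype := by
      refine Subgroup.commutator_le.mpr fun b hb u hu => ⟨cj b ⟨u, hu⟩ * ⟨u, hu⟩⁻¹, ?_, ?_⟩
      · show ((e (cj b ⟨u, hu⟩ * ⟨u, hu⟩⁻¹) : V) : H) ∈ KK x
        rw [map_mul, map_inv, mul_comm]
        exact hMle hb _
      · simp [hcj, commutatorElement_def]
    rw [hU] at h1
    obtain ⟨u, hu, huw⟩ := h1 hwV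
    have hu' : u = ⟨w, hwV⟩ := Subtype.ext huw
    subst hu'
    have h2 : e ⟨w, hwV⟩ = ⟨w, hwV⟩ ^ p := by
      simpa using avg_fixed y (MonoidHom.id V) p (h := ⟨w, hwV⟩) (Subtype.ext hwx)
    have h3 : ((e ⟨w, hwV⟩ : V) : H) ∈ KK x := hu
    rw [h2, Subgroup.coe_pow] at h3
    exact hwp p h3 (R.hcop.coprime_dvd_left (orderOf_dvd_natCard w))
  have hnc : ∃ a : H, ∃ v ∈ V, a * v ≠ v * a := by
    by_contra h
    push Not at h
    exact hVZ fun v hv => Subgroup.mem_center_iff.mpr fun g => h g v hv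
  have hLtop : L ≠ ⊤ := fun h => by
    obtain ⟨a, v, hv, hne⟩ := hnc
    exact hne (hkill ⊤ inferInstance inv_top (h ▸ le_rfl) a (Subgroup.mem_top a) v hv)
  have hVL : V ≤ L := fun a ha v => by
    have : cj a v = v := Subtype.ext (by
      rw [hcj, show a * (v : H) = v * a from congrArg Subtype.val (mul_comm' (⟨a, ha⟩ : V) v),
        mul_inv_cancel_right])
    rw [this, inv_mul_cancel]; exact one_mem _
  -- `H = V T` for a Sylow subgroup `T`
  have hex : ∃ s : ℕ, ∃ _ : Fact s.Prime, ∃ T : Subgroup H, IsPGroup s T ∧ Inv x T ∧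
      V ⊔ T = ⊤ := by
    by_contra hno
    refine hLtop (Subgroup.index_eq_one.mp ?_)
    by_contra hne
    obtain ⟨r, hr, hd⟩ := Nat.exists_prime_and_dvd hne
    haveI := Fact.mk hr
    obtain ⟨P, hP⟩ := inv_sylow R.hxp R.hcop r
    have hne' : V ⊔ (P : Subgroup H) ≠ ⊤ := fun h => hno ⟨r, ⟨hr⟩, P, P.isPGroup', hP, h⟩
    exact P.not_dvd_index (hd.trans (Subgroup.index_dvd_of_le
      (le_sup_right.trans (hML _ (inv_sup hV hP) le_sup_left hne'))))
  obtain ⟨s, hsF, T, hTs, hTinv, hVT⟩ := hex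
  have hs : s ≠ q := by
    rintro rfl
    have hall : IsPGroup s H := by
      have h := hVq.to_sup_of_normal_left hTs
      rw [hVT] at h
      exact h.of_equiv Subgroup.topEquiv
    haveI : Group.IsNilpotent H := hall.isNilpotent
    haveI : Nontrivial H := by
      obtain ⟨v, hv, hv1⟩ := (Subgroup.bot_or_exists_ne_one V).resolve_left hVne
      exact ⟨⟨v, 1, hv1⟩⟩
    -- `V` meets the center
    have h1 : ⁅V, (⊤ : Subgroup H)⁆ ≤ V := Subgroup.commutator_le_left V ⊤
    rcases hmin ⁅V, (⊤ : Subgroup H)⁆ inferInstance (inv_commutator hV inv_top) h1 with h | h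
    · rw [Subgroup.commutator_eq_bot_iff_le_centralizer] at h
      exact hVZ fun v hv => Subgroup.mem_center_iff.mpr fun g =>
        Subgroup.mem_centralizer_iff.mp (h hv) g (Subgroup.mem_top g)
    · refine hVne (le_bot_iff.mp fun v hv => ?_)
      obtain ⟨n, hn⟩ := (Subgroup.nilpotent_iff_lowerCentralSeries (G := H)).mp inferInstance
      rw [← hn]
      have : ∀ m, V ≤ (⊤ : Subgroup H).lowerCentralSeries m := by
        intro m
        induction m with
        | zero => exact fun a _ => Subgroup.mem_top a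
        | succ m ih => exact h.symm.le.trans (Subgroup.commutator_mono ih le_rfl)
      exact this n hv
  have hdisj : V ⊓ T = ⊥ := by
    obtain ⟨i, hi⟩ := hVq.exists_card_eq
    obtain ⟨j, hj⟩ := hTs.exists_card_eq
    exact Subgroup.inf_eq_bot_of_coprime (by
      rw [hi, hj]
      exact Nat.Coprime.pow _ _ ((Nat.coprime_primes Fact.out Fact.out).mpr (Ne.symm hs)))
  have hdec : ∀ h : H, ∃ v ∈ V, ∃ t ∈ T, h = v * t := fun h =>
    Cfsg.Agent.Coprime.exists_mul_of_mem_sup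
      (fun a _ => by rw [Subgroup.normalizer_eq_top]; trivial) (hVT ▸ Subgroup.mem_top h)
  have hLT : ¬ T ≤ L := fun h => hLtop (top_le_iff.mp (hVT ▸ sup_le hVL h))
  -- `T` acts faithfully
  have hT0 : T ⊓ Subgroup.centralizer (V : Set H) = ⊥ := by
    by_contra hne
    have hnorm : (T ⊓ Subgroup.centralizer (V : Set H)).Normal := ⟨fun n hn g => by
      obtain ⟨v, hv, t, ht, rfl⟩ := hdec g
      have h1 : t * n * t⁻¹ ∈ Subgroup.centralizer (V : Set H) := by
        haveI : (Subgroup.centralizer (V : Set H)).Normal := Subgroup.normal_centralizer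
        exact Subgroup.Normal.conj_mem inferInstance _ hn.2 t
      have h2 : v * t * n * (v * t)⁻¹ = t * n * t⁻¹ := by
        have h3 := Subgroup.mem_centralizer_iff.mp h1 v hv
        calc v * t * n * (v * t)⁻¹ = (v * (t * n * t⁻¹)) * v⁻¹ := by group
          _ = _ := by rw [h3, mul_inv_cancel_right]
      rw [h2]
      exact ⟨T.mul_mem (T.mul_mem ht hn.1) (T.inv_mem ht), h1⟩⟩
    have hinvc : Inv x (T ⊓ Subgroup.centralizer (V : Set H)) := inv_inf hTinv fun m hm =>
      Subgroup.mem_centralizer_iff.mpr fun v hv => by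
        obtain ⟨u, hu⟩ := y.surjective ⟨v, hv⟩
        have hu' : x (u : H) = v := congrArg Subtype.val hu
        rw [← hu', ← map_mul, ← map_mul, Subgroup.mem_centralizer_iff.mp hm u u.2]
    obtain ⟨k, hk, n, hn, -, hwkn⟩ := R.hquot _ hnorm hinvc hne w hwx
    obtain ⟨m, hm⟩ := hTs ⟨n, hn.1⟩
    have hm' : n ^ s ^ m = 1 := by simpa using congrArg Subtype.val hm
    have hc : Commute n w := (Subgroup.mem_centralizer_iff.mp hn.2 w hwV).symm
    have hk' : k = w * n⁻¹ := by rw [hwkn, mul_inv_cancel_right]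
    have hpow : k ^ s ^ m = w ^ s ^ m := by
      rw [hk', (hc.symm.inv_right).mul_pow, inv_pow, hm', inv_one, mul_one]
    refine hwp (s ^ m) (hpow ▸ pow_mem hk _) ?_
    obtain ⟨i, hi⟩ := IsPGroup.iff_orderOf.mp hVq ⟨w, hwV⟩
    rw [Subgroup.orderOf_mk] at hi
    rw [hi]
    exact Nat.Coprime.pow _ _ ((Nat.coprime_primes Fact.out Fact.out).mpr (Ne.symm hs))
  have hfaith : ∀ t ∈ T, (∀ v ∈ V, t * v = v * t) → t = 1 := fun t ht h => by
    have : t ∈ T ⊓ Subgroup.centralizer (V : Set H) :=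
      ⟨ht, Subgroup.mem_centralizer_iff.mpr fun v hv => (h v hv).symm⟩
    rwa [hT0, Subgroup.mem_bot] at this
  have hnormal : ∀ M : Subgroup H, M ≤ T → (∀ t ∈ T, ∀ m ∈ M, t * m * t⁻¹ ∈ M) →
      (V ⊔ M).Normal := by
    intro M _ hM
    refine ⟨fun n hn g => ?_⟩
    obtain ⟨v, hv, t, ht, rfl⟩ := hdec g
    have h1 : t * n * t⁻¹ ∈ V ⊔ M :=
      (sup_le (c := (V ⊔ M).comap ((MulAut.conj t : H ≃* H) : H →* H))
        (fun a ha => (le_sup_left : V ≤ V ⊔ M) (hVn.conj_mem a ha t))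
        (fun a ha => (le_sup_right : M ≤ V ⊔ M) (hM t ht a ha))) hn
    have h2 : v * t * n * (v * t)⁻¹ = v * (t * n * t⁻¹) * v⁻¹ := by group
    rw [h2]
    have hv' := (le_sup_left : V ≤ V ⊔ M) hv
    exact mul_mem (mul_mem hv' h1) (inv_mem hv')
  have hsmall : ∀ M : Subgroup H, M ≤ T → Inv x M → (∀ t ∈ T, ∀ m ∈ M, t * m * t⁻¹ ∈ M) →
      M ≤ L → M = ⊥ := fun M hMT hM hconj hMle => le_bot_iff.mp fun m hm => by
    rw [Subgroup.mem_bot]
    exact hfaith m (hMT hm) fun v hv => hkill (V ⊔ M) (hnormal M hMT hconj) (inv_sup hV hM)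
      (sup_le hVL hMle) m ((le_sup_right : M ≤ V ⊔ M) hm) v hv
  -- `T` is abelian
  have hTne : T ≠ ⊥ := fun h => hLT (h ▸ bot_le)
  have hTcomm : ∀ a ∈ T, ∀ b ∈ T, a * b = b * a := by
    intro a ha b hb
    have hlt : ⁅T, T⁆ < T := Group.IsSolvable.commutator_lt_of_ne_bot hTne
    have hne : V ⊔ ⁅T, T⁆ ≠ ⊤ := fun h => hlt.ne (le_antisymm hlt.le fun t ht => by
      obtain ⟨v, hv, d, hd, e⟩ := Cfsg.Agent.Coprime.exists_mul_of_mem_sup
        (fun a _ => by rw [Subgroup.normalizer_eq_top]; trivial)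
        (h ▸ Subgroup.mem_top t : t ∈ V ⊔ ⁅T, T⁆)
      have hvT : v ∈ V ⊓ T := ⟨hv, by
        rw [show v = t * d⁻¹ by rw [e, mul_inv_cancel_right]]
        exact T.mul_mem ht (T.inv_mem (hlt.le hd))⟩
      rw [hdisj, Subgroup.mem_bot] at hvT
      rw [e, hvT, one_mul]; exact hd)
    have hb' := hsmall ⁅T, T⁆ hlt.le (inv_commutator hTinv hTinv)
      (fun t ht m hm => by
        have h1 : ⁅T, T⁆ ≤ (⁅T, T⁆).comap ((MulAut.conj t : H ≃* H) : H →* H) :=
          Subgroup.commutator_le.mpr fun c hc d hd => by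
            show MulAut.conj t ⁅c, d⁆ ∈ ⁅T, T⁆
            rw [map_commutatorElement]
            exact Subgroup.commutator_mem_commutator (mul_mem (mul_mem ht hc) (inv_mem ht))
              (mul_mem (mul_mem ht hd) (inv_mem ht))
        exact h1 hm)
      (le_sup_right.trans (hML _ (inv_sup hV (inv_commutator hTinv hTinv)) le_sup_left hne))
    have := Subgroup.commutator_mem_commutator ha hb
    rw [hb', Subgroup.mem_bot] at this
    exact commutatorElement_eq_one_iff_mul_comm.mp this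
  have hTF : T ⊓ Fixp x = ⊥ := hsmall _ inf_le_left (inv_inf hTinv inv_fixp)
    (fun t ht m hm => by rw [hTcomm t ht m hm.1, mul_inv_cancel_right]; exact hm)
    (inf_le_right.trans hFL)
  have hTfix : ∀ t ∈ T, x t = t → t = 1 := fun t ht h => by
    have : t ∈ T ⊓ Fixp x := ⟨ht, h⟩
    rwa [hTF, Subgroup.mem_bot] at this
  haveI : IsMulCommutative T := ⟨⟨fun a b => Subtype.ext (hTcomm a a.2 b b.2)⟩⟩
  have hCVT : ∀ v ∈ V, (∀ t ∈ T, t * v = v * t) → v = 1 := fun v hv h => by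
    have : v ∈ V ⊓ Subgroup.center H := ⟨hv, Subgroup.mem_center_iff.mpr fun g => by
      obtain ⟨u, hu, t, ht, rfl⟩ := hdec g
      have h2 : u * v = v * u := congrArg Subtype.val (mul_comm' (⟨u, hu⟩ : V) ⟨v, hv⟩)
      rw [mul_assoc, h t ht, ← mul_assoc, h2, mul_assoc]⟩
    rwa [hVVZ, Subgroup.mem_bot] at this
  obtain ⟨g, hgT, hgL⟩ := SetLike.not_le_iff_exists.mp hLT
  have hDT : D x g ≤ T := (D_le_Comm hgT).trans (Comm_le hTinv)
  have hDtop : V ⊔ D x g = ⊤ := by
    by_contra hne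
    have hle : D x g ≤ L :=
      le_sup_right.trans (hML _ (inv_sup hV (inv_D g)) le_sup_left hne)
    let r : ↥(T ⊓ L) → ↥(T ⊓ L) := fun t => ⟨(t : H)⁻¹ * x t,
      ⟨T.mul_mem (T.inv_mem t.2.1) (hTinv _ t.2.1), L.mul_mem (L.inv_mem t.2.2) (hLinv _ t.2.2)⟩⟩
    have hinj : Function.Injective r := fun a b hab => by
      have h1 : (a : H)⁻¹ * x a = (b : H)⁻¹ * x b := congrArg Subtype.val hab
      have h3 : x ((a : H) * (b : H)⁻¹) = (a : H) * (b : H)⁻¹ := by
        rw [map_mul, map_inv]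
        have e1 : x (a : H) = a * ((a : H)⁻¹ * x a) := by group
        have e2 : x (b : H) = b * ((b : H)⁻¹ * x b) := by group
        rw [e1, e2, h1]; group
      exact Subtype.ext (mul_inv_eq_one.mp (hTfix _ (mul_mem a.2.1 (inv_mem b.2.1)) h3))
    obtain ⟨t₀, ht₀⟩ := (Finite.injective_iff_surjective.mp hinj)
      ⟨g⁻¹ * x g, T.mul_mem (T.inv_mem hgT) (hTinv _ hgT), hle (by simpa using gen_mem_D (x := x) g 1)⟩
    have h1 : (t₀ : H)⁻¹ * x t₀ = g⁻¹ * x g := congrArg Subtype.val ht₀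
    have h3 : x (g * (t₀ : H)⁻¹) = g * (t₀ : H)⁻¹ := by
      rw [map_mul, map_inv]
      have e1 : x g = g * (g⁻¹ * x g) := by group
      have e2 : x (t₀ : H) = t₀ * ((t₀ : H)⁻¹ * x t₀) := by group
      rw [e1, e2, h1]; group
    have := mul_inv_eq_one.mp (hTfix _ (mul_mem hgT (inv_mem t₀.2.1)) h3)
    exact hgL (this ▸ t₀.2.2)
  -- the commutator equation
  set a := g⁻¹ * x g with ha
  set b := g⁻¹ * x (x g) with hb
  have haT : a ∈ T := mul_mem (inv_mem hgT) (hTinv _ hgT)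
  have hbT : b ∈ T := mul_mem (inv_mem hgT) (hTinv _ (hTinv _ hgT))
  have hcom : ∀ v ∈ V, ((g * v)⁻¹ * x (g * v)) * ((g * v)⁻¹ * x (x (g * v))) =
      ((g * v)⁻¹ * x (x (g * v))) * ((g * v)⁻¹ * x (g * v)) := by
    intro v hv
    set h := g * v
    have hDh : V ⊔ D x h = ⊤ := by
      refine top_le_iff.mp (hDtop ▸ sup_le le_sup_left ?_)
      refine (Subgroup.closure_le _).mpr fun c ⟨i, hc⟩ => ?_
      have hv1 : v ∈ V ⊔ D x h := (le_sup_left : V ≤ _) hv
      have hv2 : (x ^ i) v ∈ V ⊔ D x h := (le_sup_left : V ≤ _) (hV.pow i hv)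
      have : c = v * (h⁻¹ * (x ^ i) h) * ((x ^ i) v)⁻¹ := by
        simp only [h, map_mul]; rw [hc]; group
      rw [this]
      exact mul_mem (mul_mem hv1 ((le_sup_right : D x h ≤ _) (gen_mem_D h i))) (inv_mem hv2)
    have hnM : (D x h ⊓ V).Normal := ⟨fun n hn k => by
      obtain ⟨u, hu, d, hd, rfl⟩ := Cfsg.Agent.Coprime.exists_mul_of_mem_sup
        (fun a _ => by rw [Subgroup.normalizer_eq_top]; trivial)
        (hDh ▸ Subgroup.mem_top k : k ∈ V ⊔ D x h)
      have h1 : d * n * d⁻¹ ∈ D x h ⊓ V :=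
        ⟨(D x h).mul_mem ((D x h).mul_mem hd hn.1) ((D x h).inv_mem hd), hVn.conj_mem n hn.2 d⟩
      have h2 : u * d * n * (u * d)⁻¹ = d * n * d⁻¹ := by
        have h3 : u * (d * n * d⁻¹) = d * n * d⁻¹ * u :=
          congrArg Subtype.val (mul_comm' (⟨u, hu⟩ : V) ⟨_, h1.2⟩)
        calc u * d * n * (u * d)⁻¹ = u * (d * n * d⁻¹) * u⁻¹ := by group
          _ = _ := by rw [h3, mul_inv_cancel_right]
      rw [h2]; exact h1⟩
    rcases hmin _ hnM (inv_inf (inv_D h) hV) inf_le_right with hbot | htop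
    · rw [← commutatorElement_eq_one_iff_mul_comm, ← Subgroup.mem_bot (G := H), ← hbot]
      have h1 : h⁻¹ * x h ∈ D x h := by simpa using gen_mem_D (x := x) h 1
      have h2 : h⁻¹ * x (x h) ∈ D x h := by
        simpa [pow_succ_apply] using gen_mem_D (x := x) h 2
      refine ⟨?_, ?_⟩
      · show ⁅h⁻¹ * x h, h⁻¹ * x (x h)⁆ ∈ D x h
        simp only [commutatorElement_def]
        exact mul_mem (mul_mem (mul_mem h1 h2) (inv_mem h1)) (inv_mem h2)
      · show ⁅h⁻¹ * x h, h⁻¹ * x (x h)⁆ ∈ V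
        rw [← QuotientGroup.eq_one_iff]
        show QuotientGroup.mk' V ⁅h⁻¹ * x h, h⁻¹ * x (x h)⁆ = 1
        have hv0 : ∀ u ∈ V, QuotientGroup.mk' V u = 1 := fun u hu =>
          (QuotientGroup.eq_one_iff u).mpr hu
        rw [map_commutatorElement, commutatorElement_eq_one_iff_mul_comm]
        simp only [h, map_mul, map_inv, mul_inv_rev, hv0 v hv, hv0 _ (hV v hv),
          hv0 _ (hV _ (hV v hv)), mul_one, inv_one, one_mul]
        rw [← map_inv, ← map_mul, ← map_mul, ← map_mul, ← map_mul, hTcomm a haT b hbT]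
    · exfalso
      refine hwK (le_KK h ⟨(inf_le_left : D x h ⊓ V ≤ D x h) (htop.symm ▸ hwV), hwx⟩)
  let X : AddMonoid.End (Additive V) := MonoidHom.toAdditive ((y : V ≃* V) : V →* V)
  let φ := phi V
  have hXφ : ∀ t v, X (φ t v) = φ (x t) (X v) := fun t v => by
    apply Additive.toMul.injective
    apply Subtype.ext
    rw [phi_apply]
    show x ((Additive.toMul (φ t v) : V) : H) = x t * x ((Additive.toMul v : V) : H) * (x t)⁻¹
    rw [phi_apply, map_mul, map_mul, map_inv]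
  have hφ : ∀ s t v, φ s (φ t v) = φ (s * t) v := fun s t v => by
    rw [map_mul]; rfl
  have hφcomm : ∀ s ∈ T, ∀ t ∈ T, ∀ v, φ s (φ t v) = φ t (φ s v) := fun s hs t ht v => by
    rw [hφ, hφ, hTcomm s hs t ht]
  set A := φ a⁻¹ with hA
  set B := φ b⁻¹ with hB
  have hEq : ∀ v, A (X (X v)) - X (X v) = B (X v) - X v + (A v - B v) := by
    intro v
    have key : B (X v - A v) + (X (X v) - B v) = A (X (X v) - B v) + (X v - A v) := by
      apply Additive.toMul.injective
      apply Subtype.ext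
      set u := (Additive.toMul v : V) with hu
      have h := hcom u u.2
      have e1 : (g * (u : H))⁻¹ * x (g * u) = a * (a⁻¹ * (u : H)⁻¹ * a * x u) := by
        rw [map_mul, ha]; group
      have e2 : (g * (u : H))⁻¹ * x (x (g * u)) = b * (b⁻¹ * (u : H)⁻¹ * b * x (x u)) := by
        rw [map_mul, map_mul, hb]; group
      rw [e1, e2] at h
      have c1 : ((Additive.toMul (X v - A v) : V) : H) = a⁻¹ * (u : H)⁻¹ * a * x u := by
        rw [sub_eq_neg_add]
        show ((Additive.toMul (A v) : V) : H)⁻¹ * x (u : H) = _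
        rw [phi_apply, hu]; group
      have c2 : ((Additive.toMul (X (X v) - B v) : V) : H) = b⁻¹ * (u : H)⁻¹ * b * x (x u) := by
        rw [sub_eq_neg_add]
        show ((Additive.toMul (B v) : V) : H)⁻¹ * x (x (u : H)) = _
        rw [phi_apply, hu]; group
      rw [toMul_add, toMul_add, Subgroup.coe_mul, Subgroup.coe_mul, phi_apply, phi_apply, c1, c2]
      set w₁ := a⁻¹ * (u : H)⁻¹ * a * x u
      set w₂ := b⁻¹ * (u : H)⁻¹ * b * x (x u)
      refine mul_left_cancel (a := a * b) ?_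
      calc a * b * (b⁻¹ * w₁ * b⁻¹⁻¹ * w₂) = a * w₁ * (b * w₂) := by group
        _ = b * w₂ * (a * w₁) := h
        _ = a * b * (a⁻¹ * w₂ * a⁻¹⁻¹ * w₁) := by rw [hTcomm a haT b hbT]; group
    simp only [map_sub] at key
    have hAB : B (A v) = A (B v) := hφcomm _ (inv_mem hbT) _ (inv_mem haT) v
    rw [hAB] at key
    linear_combination (norm := abel) key.symm
  let P : AddMonoid.End (Additive V) := A - 1
  let Q : AddMonoid.End (Additive V) := B - 1
  have hE : ∀ t ∈ T, ∀ v, P (φ (t * (x (x t))⁻¹) (X (X v)) - X (X v)) =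
      Q (φ (t * (x t)⁻¹) (X v) - X v) := by
    intro t ht v
    have h1 := hEq (φ t⁻¹ v)
    rw [hXφ, hXφ, map_inv, map_inv] at h1
    have h2 := congrArg (φ t) h1
    have hinvA : φ t (A (φ t⁻¹ v)) = A v := by
      rw [hφcomm t ht _ (inv_mem haT), hφ t t⁻¹, mul_inv_cancel, map_one]; rfl
    have hinvB : φ t (B (φ t⁻¹ v)) = B v := by
      rw [hφcomm t ht _ (inv_mem hbT), hφ t t⁻¹, mul_inv_cancel, map_one]; rfl
    simp only [map_sub, map_add, hinvA, hinvB] at h2
    have hAc : ∀ z, φ t (A z) = A (φ t z) := hφcomm t ht _ (inv_mem haT)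
    have hBc : ∀ z, φ t (B z) = B (φ t z) := hφcomm t ht _ (inv_mem hbT)
    rw [hAc, hBc, hφ t (x (x t))⁻¹ (X (X v)), hφ t (x t)⁻¹ (X v)] at h2
    have h3 := hEq v
    show A (φ (t * (x (x t))⁻¹) (X (X v)) - X (X v)) -
        (φ (t * (x (x t))⁻¹) (X (X v)) - X (X v)) =
      B (φ (t * (x t)⁻¹) (X v) - X v) - (φ (t * (x t)⁻¹) (X v) - X v)
    simp only [map_sub]
    linear_combination (norm := abel) h2 - h3
  have hPφ : ∀ t ∈ T, ∀ v, P (φ t v) = φ t (P v) := fun t ht v => by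
    show A (φ t v) - φ t v = φ t (A v - v)
    rw [map_sub, hφcomm _ (inv_mem haT) t ht]
  have hQφ : ∀ t ∈ T, ∀ v, Q (φ t v) = φ t (Q v) := fun t ht v => by
    show B (φ t v) - φ t v = φ t (B v - v)
    rw [map_sub, hφcomm _ (inv_mem hbT) t ht]
  have hfix0 : ∀ v, (∀ t ∈ T, φ t v = v) → v = 0 := fun v h => by
    apply Additive.toMul.injective
    apply Subtype.ext
    refine hCVT _ (Additive.toMul v).2 fun t ht => ?_
    have h1 := congrArg (fun z => ((Additive.toMul z : V) : H)) (h t ht)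
    simp only [phi_apply, φ] at h1
    exact mul_inv_eq_iff_eq_mul.mp h1
  have hsurjT : ∀ f : T → T, Function.Injective f → ∀ d ∈ T, ∃ t : T, (f t : H) = d := by
    intro f hf d hd
    obtain ⟨t, ht⟩ := (Finite.injective_iff_surjective.mp hf) ⟨d, hd⟩
    exact ⟨t, by rw [ht]⟩
  have hxx : ∀ t ∈ T, x (x t) = t → t = 1 := fun t ht h => by
    refine hTfix t ht ?_
    obtain ⟨m, hm⟩ := exists_pow_eq_self_of_coprime (x := x) (n := 2) (by
      exact ((Nat.coprime_primes hp.out Nat.prime_two).mpr hp2).symm.coprime_dvd_right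
        (orderOf_dvd_of_pow_eq_one R.hxp))
    have h2 : (x ^ 2) t = t := by rw [pow_succ_apply, pow_one]; exact h
    conv_lhs => rw [← hm]
    exact pow_fix h2 m
  have hcg : ∀ {i k j l : H}, i ∈ T → k ∈ T → j ∈ T → l ∈ T → i * k⁻¹ = j * l⁻¹ →
      k * l⁻¹ = i * j⁻¹ := by
    intro i k j l hi hk hj hl h
    have h' : (⟨i, hi⟩ : T) * (⟨k, hk⟩ : T)⁻¹ = ⟨j, hj⟩ * (⟨l, hl⟩ : T)⁻¹ := Subtype.ext h
    have : (⟨k, hk⟩ : T) * (⟨l, hl⟩ : T)⁻¹ = ⟨i, hi⟩ * (⟨j, hj⟩ : T)⁻¹ := by
      rw [show (⟨k, hk⟩ : T) * (⟨l, hl⟩ : T)⁻¹ =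
        ⟨k, hk⟩ * (⟨j, hj⟩ : T)⁻¹ * (⟨j, hj⟩ * (⟨l, hl⟩ : T)⁻¹) by group, ← h']
      simp [mul_comm, mul_left_comm, mul_assoc]
    exact congrArg Subtype.val this
  have hP : ∀ c ∈ T, ∀ d ∈ T, ∀ v, φ c (φ d (P v) - P v) = φ d (P v) - P v := by
    intro c hc d hd v
    obtain ⟨t, ht⟩ := hsurjT
      (fun t => ⟨(t : H) * (x (x t))⁻¹, mul_mem t.2 (inv_mem (hTinv _ (hTinv _ t.2)))⟩)
      (fun i j hij => by
        have h1 : (i : H) * (x (x i))⁻¹ = (j : H) * (x (x j))⁻¹ := congrArg Subtype.val hij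
        refine Subtype.ext (mul_inv_eq_one.mp (hxx _ (mul_mem i.2 (inv_mem j.2)) ?_)).symm.symm
        rw [map_mul, map_mul, map_inv, map_inv]
        exact hcg i.2 (hTinv _ (hTinv _ i.2)) j.2 (hTinv _ (hTinv _ j.2)) h1) c hc
    obtain ⟨s, hs⟩ := hsurjT
      (fun s => ⟨x s * (x (x s))⁻¹, mul_mem (hTinv _ s.2) (inv_mem (hTinv _ (hTinv _ s.2)))⟩)
      (fun i j hij => by
        have h1 : x (i : H) * (x (x i))⁻¹ = x (j : H) * (x (x j))⁻¹ := congrArg Subtype.val hij
        refine Subtype.ext (mul_inv_eq_one.mp (hTfix _ (mul_mem i.2 (inv_mem j.2)) ?_))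
        apply x.injective
        simp only [map_mul, map_inv]
        exact hcg (hTinv _ i.2) (hTinv _ (hTinv _ i.2)) (hTinv _ j.2) (hTinv _ (hTinv _ j.2)) h1) d hd
    obtain ⟨u, rfl⟩ : ∃ u, X (X u) = v := by
      obtain ⟨u₁, h₁⟩ := y.surjective (Additive.toMul v)
      obtain ⟨u₂, h₂⟩ := y.surjective u₁
      refine ⟨Additive.ofMul u₂, ?_⟩
      show Additive.ofMul (y (y u₂)) = v
      rw [h₂, h₁]; rfl
    set δ := (t : H) * (x (x t))⁻¹
    set ct := (t : H) * (x t)⁻¹
    set cs := (s : H) * (x (s : H))⁻¹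
    set ds := (s : H) * (x (x (s : H)))⁻¹
    have hcsT : cs ∈ T := mul_mem s.2 (inv_mem (hTinv _ s.2))
    have hctT : ct ∈ T := mul_mem t.2 (inv_mem (hTinv _ t.2))
    have hdsT : ds ∈ T := mul_mem s.2 (inv_mem (hTinv _ (hTinv _ s.2)))
    have hds : ds = cs * d := by rw [← hs]; simp only [ds, cs]; group
    have hδ : δ = c := ht
    have hxw : ∀ r ∈ T, ∀ z, X (X (φ r z)) = φ (x (x r)) (X (X z)) := fun r hr z => by
      rw [hXφ, hXφ]
    -- instance of `hE` moved by `s`
    have hmove : ∀ (M : AddMonoid.End (Additive V)), (∀ r ∈ T, ∀ z, M (φ r z) = φ r (M z)) →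
        ∀ r ∈ T, ∀ e ∈ T, ∀ z, φ r (M (φ e z - z)) = M (φ e (φ r z) - φ r z) := by
      intro M hM r hr e he z
      rw [← hM r hr, map_sub, hφcomm r hr e he]
    have hδT : δ ∈ T := hδ ▸ hc
    have h1 := hE t t.2 (φ (s : H)⁻¹ u)
    rw [hXφ (s : H)⁻¹, hXφ, map_inv, map_inv] at h1
    have h2 := congrArg (φ (s : H)) h1
    rw [hmove P hPφ _ s.2 _ hδT, hmove Q hQφ _ s.2 _ hctT, hφ (s : H) (x (x (s : H)))⁻¹,
      hφ (s : H) (x (s : H))⁻¹] at h2
    have h3 := congrArg (φ cs) (hE t t.2 u)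
    rw [hmove P hPφ _ hcsT _ hδT, hmove Q hQφ _ hcsT _ hctT] at h3
    change P (φ δ (φ ds (X (X u))) - φ ds (X (X u))) = Q (φ ct (φ cs (X u)) - φ cs (X u)) at h2
    rw [← h3, hds, ← hφ cs d, ← hmove P hPφ _ hcsT _ hδT, ← hmove P hPφ _ hcsT _ hδT] at h2
    have h4 : P (φ δ (φ d (X (X u))) - φ d (X (X u))) = P (φ δ (X (X u)) - X (X u)) := by
      have hj : Function.Injective (φ cs) := Function.LeftInverse.injective (g := φ cs⁻¹)
        fun z => by rw [hφ, inv_mul_cancel, map_one]; rfl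
      exact hj h2
    rw [hδ] at h4
    simp only [map_sub, hPφ _ hd, hPφ _ hc] at h4
    rw [hφcomm c hc d hd] at h4
    rw [map_sub, hφcomm c hc d hd]
    linear_combination (norm := abel) h4
  -- conclusion
  have hAone : ∀ v, P v = 0 := fun v =>
    hfix0 _ fun d hd => sub_eq_zero.mp (hfix0 _ fun c hc => hP c hc d hd v)
  have ha1 : a = 1 := by
    have := hfaith a⁻¹ (inv_mem haT) fun v hv => by
      have h1 : A (Additive.ofMul (⟨v, hv⟩ : V)) = Additive.ofMul (⟨v, hv⟩ : V) :=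
        sub_eq_zero.mp (hAone _)
      have h2 := congrArg (fun z => ((Additive.toMul z : V) : H)) h1
      simp only [phi_apply, A, φ] at h2
      exact mul_inv_eq_iff_eq_mul.mp h2
    exact inv_eq_one.mp this
  exact hgL (hFL (show x g = g from (inv_mul_eq_one.mp ha1).symm))

end Cfsg.Agent.Flavell73
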